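import Cfsg.Agent.Fischer.Component
import Cfsg.Agent.Spor3T.CentralQuotient

/-!
A class with disconnected commuting graph: the shifts of another component.
-/

set_option autoImplicit false
set_option linter.unusedSectionVars false
set_option linter.style.haveILetI false

namespace CfsgLib.Fischer

open CfsgLib.ThreeT CfsgLib.ThreeT.Prod

universe u

variable {G : Type u} [Group G] [Finite G] {D : Set G}

/-- The standing hypothesis for a disconnected commuting graph. -/
structure Disc (D : Set G) : Prop where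
  cls : Cfsg.IsThreeTranspositionClass D
  center : Subgroup.center G = ⊥
  two : Cfsg.pCore 2 G = ⊥
  three : Cfsg.pCore 3 G = ⊥
  split : ∃ a ∈ D, ∃ b ∈ D, comp D a ≠ comp D b

namespace Disc

variable (h : Disc D)
include h

theorem mem {d : G} (hd : d ∈ D) (g : G) : g * d * g⁻¹ ∈ D := ThreeT.conj_mem h.cls hd g

theorem closed : Closed D :=
  ⟨h.cls.1, fun x hx y hy => by
    have := h.mem hy x
    rwa [ThreeT.inv h.cls.1 hx] at this⟩

theorem gen : Subgroup.closure D = ⊤ := h.cls.2.2

theorem sol : ∀ N : Subgroup G, N.Normal → Group.IsSolvable N → N = ⊥ :=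
  solvable_normal_eq_bot h.cls h.center h.two h.three

theorem exists_near {a : G} (ha : a ∈ D) : (nb D a).Nonempty := by
  have he : Edge D := by
    by_contra hno
    haveI : Group.IsSolvable G := isSolvable_of_no_commuting h.cls fun a b hab c =>
      hno ⟨a, a.2, b, b.2, fun e => hab (Subtype.ext e), c⟩
    have h1 := h.sol ⊤ inferInstance inferInstance
    exact ne_one_of_orderOf (h.cls.1.1 a ha) (Subgroup.mem_bot.1 (h1 ▸ Subgroup.mem_top a))
  obtain ⟨p, hp, q, hq, hne, hc⟩ := he
  obtain ⟨g, rfl⟩ := exists_conj h.cls hp ha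
  exact ⟨g * q * g⁻¹, h.mem hq g, fun e => hne (mul_left_cancel (mul_right_cancel e)).symm,
    (commute_conj_iff g p q).2 hc⟩

theorem comp_edge {a : G} (ha : a ∈ D) : Edge (comp D a) := by
  obtain ⟨b, hb⟩ := h.exists_near ha
  exact ⟨a, mem_comp_self ha, b, comp_step (mem_comp_self ha) hb.1 hb.2.2, hb.2.1.symm, hb.2.2⟩

theorem comp_noTwins {a : G} (ha : a ∈ D) : NoTwins (comp D a) := by
  constructor
  · intro x hx y hy hxy
    have h1 : ∀ z ∈ D, Commute y z ↔ Commute x z := fun z hz =>
      ⟨fun c => (hxy z (comp_step hy hz c)).2 c, fun c => (hxy z (comp_step hx hz c)).1 c⟩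
    have h2 := mul_mem_two_core h.cls hx.1 hy.1 h1
    rw [h.two, Subgroup.mem_bot] at h2
    rw [← h.closed.inv hx.1]
    exact inv_eq_of_mul_eq_one_right h2
  · intro x hx y hy hxy
    rw [comp_nb hx, comp_nb hy] at hxy
    have h2 := mul_mem_three_core h.cls hx.1 hy.1 hxy
    rw [h.three, Subgroup.mem_bot] at h2
    rw [← h.closed.inv hx.1]
    exact inv_eq_of_mul_eq_one_right h2

theorem exists_other (a : G) : ∃ b ∈ D, b ∉ comp D a := by
  by_contra q
  push Not at q
  obtain ⟨p, hp, r, hr, hne⟩ := h.split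
  exact hne ((comp_eq (q p hp)).trans (comp_eq (q r hr)).symm)

theorem far_out {a x b : G} (hx : x ∈ comp D a) (hb : b ∈ D) (hba : b ∉ comp D a) : ¬ Commute x b :=
  fun c => hba (comp_step hx hb c)

theorem conj_in {g a x : G} (hx : x ∈ comp D a) : g * x * g⁻¹ ∈ comp D (g * a * g⁻¹) := by
  refine ⟨h.mem hx.1 g, ?_⟩
  have key : ∀ y, Link D a y → Link D (g * a * g⁻¹) (g * y * g⁻¹) := by
    intro y hy
    induction hy with
    | refl => exact Relation.ReflTransGen.refl
    | tail _ hst ih =>
      exact ih.tail ⟨h.mem hst.1 g, h.mem hst.2.1 g, (commute_conj_iff g _ _).2 hst.2.2⟩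
  exact key x hx.2

omit h in
/-- The product of two members carried across an outside member. -/
theorem _root_.CfsgLib.Fischer.shift_iff {S : Set G} (hS : Closed S) {x y b : G} (hx : x ∈ S) (hy : y ∈ S)
    (hb : b ∈ S) (hxb : ¬ Commute x b) (hyb : ¬ Commute y b) :
    Commute (x * y * b * (x * y)⁻¹) b ↔ Commute x y := by
  rw [mul_inv_rev, hS.inv hx, hS.inv hy, show x * y * b * (y * x) = x * (y * b * y) * x by group,
    hS.commute_conj' hx, hS.braid hy hb hyb, hS.braid hx hb hxb, hS.commute_conj hb]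
  exact ⟨Commute.symm, Commute.symm⟩

/-- A product of two members of a component keeps the other components. -/
theorem shift_comp {a x y b : G} (hx : x ∈ comp D a) (hy : y ∈ comp D a) (hb : b ∈ D) :
    x * y * b * (x * y)⁻¹ ∈ comp D b := by
  have hS := h.closed
  have hx' := hx.1
  have hy' := hy.1
  by_cases hba : b ∈ comp D a
  · rw [comp_eq hba, mul_inv_rev, hS.inv hx', hS.inv hy', show x * y * b * (y * x) = x * (y * b * y) * x by group]
    exact (comp_closed hS a).conj x hx _ ((comp_closed hS a).conj y hy b hba)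
  have key : ∀ z, Link (comp D a) x z → x * z * b * (x * z)⁻¹ ∈ comp D b := by
    intro z hz
    induction hz with
    | refl => rw [hS.sq hx']; simpa using mem_comp_self hb
    | @tail p q _ hpq ih =>
      obtain ⟨hp, hq, hc⟩ := hpq
      have h1 := (shift_iff hS hp.1 hq.1 hb (h.far_out hp hb hba) (h.far_out hq hb hba)).2 hc
      have h2 : p * q * b * (p * q)⁻¹ ∈ comp D b :=
        comp_step (mem_comp_self hb) (h.mem hb _) h1.symm
      have h3 := h.conj_in (g := x * p) h2
      rw [comp_eq ih] at h3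
      rwa [show x * p * (p * q * b * (p * q)⁻¹) * (x * p)⁻¹ = x * (p * p) * q * b * (x * (p * p) * q)⁻¹ by group,
        hS.sq hp.1, mul_one] at h3
  exact key y (comp_link hx (hx.2.symm.trans hy.2))

theorem shift_move {a x y b : G} (hx : x ∈ comp D a) (hy : y ∈ comp D a) (hne : x ≠ y) (hb : b ∈ D)
    (hba : b ∉ comp D a) : x * y * b * (x * y)⁻¹ ≠ b := by
  intro e
  have hfx := h.far_out hx hb hba
  by_cases hc : Commute x y
  · have h1 : Commute (x * y) b := mul_inv_eq_iff_eq_mul.1 e
    exact hfx ((commute_mul_iff h.cls.1 hx.1 hy.1 hb hc hne).1 h1).1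
  · refine hc ((shift_iff h.closed hx.1 hy.1 hb hfx (h.far_out hy hb hba)).1 ?_)
    rw [e]

end Disc

end CfsgLib.Fischer
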