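import Cfsg.Agent.Fischer.Disc.Transfer
import Cfsg.Agent.Fischer.SimpleCases
import Cfsg.Agent.Spor3T.M24Invol

/-!
The possible types of a component.
-/

set_option autoImplicit false
set_option linter.unusedSectionVars false
set_option linter.style.haveILetI false

open scoped commutatorElement

namespace CfsgLib.Fischer

open CfsgLib.ThreeT CfsgLib.ThreeT.Prod

universe u

variable {G : Type u} [Group G] [Finite G] {D : Set G}

theorem commutator_map_equiv' {A : Type*} [Group A] {B : Type*} [Group B] (e : A ≃* B) :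
    (commutator A).map e.toMonoidHom = commutator B := by
  rw [commutator_def, commutator_def, Subgroup.map_commutator, Subgroup.map_top_of_surjective _ e.surjective]

/-- A simple group of the hypothesis is perfect. -/
theorem Fi.perfect_of_simple {D : Set G} (h : Fi D) (hs : IsSimpleGroup G) : commutator G = ⊤ := by
  refine (hs.eq_bot_or_eq_top_of_normal _ inferInstance).resolve_left fun e => ?_
  have hab : Subgroup.center G = ⊤ := eq_top_iff.2 fun g _ => Subgroup.mem_center_iff.2 fun k => by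
    have := Subgroup.mem_bot.1 (e ▸ Subgroup.commutator_mem_commutator (Subgroup.mem_top k) (Subgroup.mem_top g) :
      ⁅k, g⁆ ∈ (⊥ : Subgroup G))
    exact commutatorElement_eq_one_iff_mul_comm.1 this
  exact bot_ne_top (h.center.symm.trans hab)

namespace Disc

variable (h : Disc D)
include h

/-- A component carries over to every other one. -/
theorem comp_embed {b c : G} (hb : b ∈ D) (hc : c ∈ D) :
    ∃ φ : QG (comp D b) → G, Set.MapsTo φ (qimg (comp D b)) (comp D c) ∧ Set.InjOn φ (qimg (comp D b)) ∧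
      ∀ x ∈ qimg (comp D b), ∀ y ∈ qimg (comp D b), (Commute (φ x) (φ y) ↔ Commute x y) := by
  have hS := comp_closed h.closed b
  obtain ⟨ψ, g, -⟩ := (SIso.qmap hS (h.comp_noTwins hb)).symm hS
  obtain ⟨t, rfl⟩ := exists_conj h.cls hb hc
  refine ⟨fun x => t * ψ x * t⁻¹, fun x hx => h.conj_in (g.bij.mapsTo hx),
    fun x hx y hy e => g.bij.injOn hx hy (mul_left_cancel (mul_right_cancel e)), fun x hx y hy => ?_⟩
  rw [commute_conj_iff]
  exact g.com x hx y hy

theorem pat_move {b c : G} (hb : b ∈ D) (hc : c ∈ D) {r : ℕ} (P : PPat (qimg (comp D b)) r) : PPat (comp D c) r :=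
  let ⟨_, h1, h2, h3⟩ := h.comp_embed hb hc
  P.map h1 h2 h3

theorem cpat_move {b c : G} (hb : b ∈ D) (hc : c ∈ D) {r : ℕ} (P : CPat (qimg (comp D b)) r) : CPat (comp D c) r :=
  let ⟨_, h1, h2, h3⟩ := h.comp_embed hb hc
  P.map h1 h2 h3

/-- Another component gives a shift. -/
theorem exists_shift {b c : G} (hb : b ∈ D) (hc : c ∈ D) (hcb : c ∉ comp D b) :
    ∃ u ∈ comp D c, ∃ v ∈ comp D c, u ≠ v ∧ Commute u v ∧ Shift (qimg (comp D b)) (toQ (comp D b) (u * v)) := by
  obtain ⟨u, hu, v, hv, hne, hco⟩ := h.exists_pair hc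
  exact ⟨u, hu, v, hv, hne, hco, h.pair_shift hc hb hcb hu hv hne hco⟩

/-- Some pairs of two other components are conjugate under the group of one. -/
def Conjugable (D : Set G) (b : G) : Prop :=
  ∀ c ∈ D, ∀ c' ∈ D, c ∉ comp D b → c' ∉ comp D b →
    ∃ u ∈ comp D c, ∃ v ∈ comp D c, u ≠ v ∧ ∃ u' ∈ comp D c', ∃ v' ∈ comp D c', Commute u' v' ∧
      ∃ T ∈ Subgroup.closure (comp D b), T * (u * v) * T⁻¹ = u' * v'

theorem perfect_false {b : G} (hb : b ∈ D) (hp : commutator (QG (comp D b)) = ⊤) : False := by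
  set K := Subgroup.closure (comp D b)
  have hbK : b ∈ K := Subgroup.subset_closure (mem_comp_self hb)
  obtain ⟨k, hk, e⟩ := commutator_map_mk.ge (show (QuotientGroup.mk (⟨b, hbK⟩ : ↥K) : QG (comp D b)) ∈ commutator _
    from hp ▸ Subgroup.mem_top _)
  have hk' : (k : G) ∈ cder D b := (Subgroup.map_subtype_commutator K).le (Subgroup.mem_map_of_mem _ hk)
  have hz : k⁻¹ * (⟨b, hbK⟩ : ↥K) ∈ Subgroup.center ↥K := QuotientGroup.eq.1 e
  have h1 : (k : G)⁻¹ * b = 1 := h.cder_centralizer hb fun n hn =>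
    (congrArg Subtype.val (Subgroup.mem_center_iff.1 hz ⟨n, Subgroup.commutator_le_self K hn⟩)).symm
  have hbN : b ∈ cder D b := by
    have h2 := (cder D b).mul_mem hk' (one_mem _)
    rwa [← h1, mul_inv_cancel_left] at h2
  obtain ⟨y, hy, hyb⟩ := h.exists_other b
  have h2 := h.mem_keep (h.cder_le_keep hb hbN) hy
  rw [h.closed.inv hb] at h2
  exact (comp_moves h.closed hb hy fun e => hyb (e ▸ mem_comp_self hy)).1 (comp_eq h2)

theorem kind {b : G} (hb : b ∈ D) : Conjugable D b ∧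
    (Nonempty (↥(cder D b) ≃* Cfsg.Omega (ZMod 2) (Cfsg.quadFormPlus 4 (ZMod 2))) ∨
      Nonempty (↥(cder D b) ≃* Cfsg.POmega (ZMod 3) (Cfsg.quadFormPlus 4 (ZMod 3)))) := by
  classical
  set D' := qimg (comp D b)
  have h' : Fi D' := h.comp_fi hb
  obtain ⟨eN⟩ := h.cder_equiv hb
  have hne : D'.Nonempty := let ⟨a, ha, _⟩ := h'.width; ⟨a, ha⟩
  obtain ⟨c₁, hc₁, hc₁b⟩ := h.exists_other b
  obtain ⟨u₁, -, v₁, -, -, -, hsh⟩ := h.exists_shift hb hc₁ hc₁b
  have hD' : Cfsg.IsThreeTranspositionGroup D' := ⟨h'.cls.1, fun g d hd => h'.mem hd g, h'.gen⟩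
  by_cases ho : ∀ x ∈ D', Cfsg.oddCore ↥(Subgroup.closure (nb D' x)) ≤
      Subgroup.center ↥(Subgroup.closure (nb D' x))
  swap
  · push Not at ho
    obtain ⟨x, hx, ho⟩ := ho
    obtain ⟨e, he⟩ := sym_model h'.cls h'.center (by norm_num) (start_five h' hx ho)
    exact (shift_sym (by norm_num) e he hsh).elim
  by_cases h2 : ∀ x ∈ D', Cfsg.pCore 2 ↥(Subgroup.closure (nb D' x)) ≤
      Subgroup.center ↥(Subgroup.closure (nb D' x))
  swap
  · push Not at h2
    obtain ⟨x, hx, h2⟩ := h2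
    rcases start_tv h' hx h2 with ⟨m, hm, φ, f⟩ | ⟨n, hn, K, i1, i2, hK, φ, f⟩
    · exact (shift_symp f h'.closed h'.gen hne hsh).elim
    · exact (shift_uni hK f h'.closed h'.gen hne hsh).elim
  have hgood : ∀ a ∈ D', NoTwins (nb D' a) ∧ Fi (qimg (nb D' a)) := fun a ha =>
    h'.local_fi ha (h2 a ha) (ho a ha)
  cases stepped_of_good h' hgood with
  | sym m hm hs =>
    obtain ⟨e, he⟩ := sym_model h'.cls h'.center (by omega) hs
    exact (shift_sym (by omega) e he hsh).elim
  | quad m hm hs =>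
    obtain ⟨k, rfl⟩ : ∃ k, m = k + 1 := ⟨m - 1, by omega⟩
    have hbig : ∀ q, 4 ≤ k → PPat D' k → IsQ (k + 1) q → ∀ φ, TwoCo D' (sform (k + 1)) {v | q v = 1} φ →
        Submodule.span (ZMod 2) {v | q v = 1} = ⊤ → False := by
      intro q hk P hq φ f hspan
      obtain ⟨p, p', hP, -⟩ := h.exists_spairs hc₁ hb hc₁b (h.pat_move hb hc₁ P)
      have hle := pairs_bound hP h'.closed h'.gen (Nat.succ_pos k) hq f hspan
      obtain ⟨t, rfl⟩ : ∃ t, k = t + 4 := ⟨k - 4, by omega⟩
      have ht : t < 2 ^ t := Nat.lt_two_pow_self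
      rw [pow_add] at hle
      omega
    rcases quad_normal hs with ⟨φ, f⟩ | ⟨φ, f⟩
    · by_cases hk : 4 ≤ k
      · exact (hbig _ hk (plus_pat h'.closed f) (qplus_isQ _) φ f (qplus_span (by omega))).elim
      obtain rfl : k = 3 := by omega
      refine ⟨fun c hc c' hc' hcb hcb' => ?_, Or.inl ?_⟩
      · obtain ⟨p, p', hP, hpr⟩ := h.exists_spairs hc hb hcb (h.pat_move hb hc (plus_pat h'.closed f))
        obtain ⟨q, q', hQ, hqr⟩ := h.exists_spairs hc' hb hcb' (h.pat_move hb hc' (plus_pat h'.closed f))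
        obtain ⟨t, ht⟩ := pairs_plus hP hQ h'.closed h'.gen h'.center f
        obtain ⟨u, hu, v, hv, huv, -, e⟩ := hpr 0
        obtain ⟨u', hu', v', hv', -, huv', e'⟩ := hqr 0
        rw [e, e'] at ht
        exact ⟨u, hu, v, hv, huv, u', hu', v', hv', huv', h.conj_lift hb
          ((h.cder_eq hc hb).le (h.pair_cder hc hu hv)) ((h.cder_eq hc' hb).le (h.pair_cder hc' hu' hv')) ht⟩
      · obtain ⟨e, -⟩ := plus_model (by norm_num) h'.cls h'.center f
        exact ⟨eN.trans ((e.subgroupMap _).trans (MulEquiv.subgroupCongr (commutator_map_equiv' e)))⟩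
    · exfalso
      by_cases hk : 4 ≤ k
      · exact hbig _ hk (minus_pat h'.closed f) (qminus_isQ _) φ f (qminus_span (by omega))
      obtain rfl : k = 3 := by omega
      obtain ⟨p, p', hP, -⟩ := h.exists_spairs hc₁ hb hc₁b (h.pat_move hb hc₁ (minus_pat h'.closed f))
      exact pairs_minus hP h'.closed h'.gen f
  | refl n hn μ hs =>
    obtain ⟨Q, hQ, -, φ, f⟩ := hs
    obtain ⟨p, hC⟩ := h.exists_clique hc₁ hb hc₁b (h.cpat_move hb hc₁ (refl_pat h'.closed hn hQ f))
    obtain rfl := clique_eight f h'.closed h'.gen hQ hn hC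
    refine ⟨fun c hc c' hc' hcb hcb' => ?_, Or.inr ?_⟩
    · obtain ⟨u, hu, v, hv, huv, -, hg⟩ := h.exists_shift hb hc hcb
      obtain ⟨u', hu', v', hv', -, huv', hg'⟩ := h.exists_shift hb hc' hcb'
      obtain ⟨t, ht⟩ := shift_conj_eight f h'.closed h'.gen h'.center hQ hg hg'
      exact ⟨u, hu, v, hv, huv, u', hu', v', hv', huv', h.conj_lift hb
        ((h.cder_eq hc hb).le (h.pair_cder hc hu hv)) ((h.cder_eq hc' hb).le (h.pair_cder hc' hu' hv')) ht⟩
    · obtain ⟨Q', hQ', hμ', e, -⟩ := refl_model (μ := Cfsg.polarGramDet (⇑Q)) h'.cls h'.center ⟨Q, hQ, rfl, φ, f⟩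
      obtain ⟨e1⟩ := refl_omega hQ' (by norm_num)
      obtain ⟨e2⟩ := pomega_eight hQ' (hμ'.trans (shift_det f h'.closed h'.gen hQ hsh))
      exact ⟨eN.trans (((e.subgroupMap _).trans (MulEquiv.subgroupCongr (commutator_map_equiv' e))).trans
        (e1.trans e2))⟩
  | t22 hs =>
    have ht := type22 h' hs
    haveI := simple22 (geo22 hD' h'.prim ht) h'.prim ht
    exact (h.perfect_false hb (h'.perfect_of_simple inferInstance)).elim
  | t23 hs =>
    obtain ⟨d, P⟩ := exists_point23 hD' h'.prim (type23 h' hs)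
    haveI := simple23 P h'.prim
    exact (h.perfect_false hb (h'.perfect_of_simple inferInstance)).elim
  | t24 hs =>
    obtain ⟨d, P⟩ := exists_point24 hD' h'.prim (type24 h' hgood hs)
    obtain ⟨x, hx, hcx⟩ := exists_fixed24 P hsh.1
    exact ((hsh.2 x hx).2.1 (by rw [hcx.eq, mul_inv_cancel_right])).elim

end Disc

end CfsgLib.Fischer
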