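import Cfsg.Agent.Fischer.Space

/-!
Anticommuting operators over three elements force a large space.
-/

set_option autoImplicit false
set_option linter.unusedSectionVars false

namespace CfsgLib.Fischer

/-- Two anticommuting square roots of one halve the space. -/
theorem halve {V : Type} [AddCommGroup V] [Module (ZMod 3) V] [FiniteDimensional (ZMod 3) V]
    (a c : V →ₗ[ZMod 3] V) (ha : ∀ x, a (a x) = x) (hc : ∀ x, c (c x) = x) (hac : ∀ x, a (c x) = -c (a x)) :
    Module.finrank (ZMod 3) V = 2 * Module.finrank (ZMod 3) (LinearMap.ker (a - LinearMap.id)) := by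
  set W := LinearMap.ker (a - LinearMap.id)
  set W' := LinearMap.ker (a + LinearMap.id)
  have hW : ∀ x, x ∈ W ↔ a x = x := fun x => by simp [W, sub_eq_zero]
  have hW' : ∀ x, x ∈ W' ↔ a x = -x := fun x => by simp [W', add_eq_zero_iff_eq_neg]
  have h3 : ∀ x : V, x + x + x = 0 := fun x => by
    have e : ((1 : ZMod 3) + 1 + 1) • x = x + x + x := by rw [add_smul, add_smul, one_smul]
    rw [← e, show (1 : ZMod 3) + 1 + 1 = 0 from rfl, zero_smul]
  have hsup : W ⊔ W' = ⊤ := by
    rw [eq_top_iff]
    intro x _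
    rw [Submodule.mem_sup]
    refine ⟨-(x + a x), (hW _).2 ?_, -(x - a x), (hW' _).2 ?_, ?_⟩
    · rw [map_neg, map_add, ha, add_comm]
    · rw [map_neg, map_sub, ha, neg_neg, neg_sub]
    · rw [show -(x + a x) + -(x - a x) = x - (x + x + x) by abel, h3, sub_zero]
  have hinf : W ⊓ W' = ⊥ := by
    rw [Submodule.eq_bot_iff]
    rintro x ⟨h1, h2⟩
    have e := ((hW x).1 h1).symm.trans ((hW' x).1 h2)
    calc x = x + x + x - (x + x) := by abel
      _ = 0 := by rw [h3, add_eq_zero_iff_eq_neg.2 e, sub_zero]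
  let g : W ≃ₗ[ZMod 3] W' :=
    { toFun := fun x => ⟨c x.1, (hW' _).2 (by rw [hac, (hW _).1 x.2])⟩
      map_add' := fun x y => Subtype.ext (map_add c _ _)
      map_smul' := fun k x => Subtype.ext (map_smul c _ _)
      invFun := fun x => ⟨c x.1, (hW _).2 (by rw [hac, (hW' _).1 x.2, map_neg, neg_neg])⟩
      left_inv := fun x => Subtype.ext (hc _)
      right_inv := fun x => Subtype.ext (hc _) }
  have h1 := Submodule.finrank_sup_add_finrank_inf_eq W W'
  rw [hsup, hinf, finrank_top, finrank_bot, ← g.finrank_eq] at h1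
  omega

/-- An even number of anticommuting operators with equal scalar squares. -/
theorem anti_dvd : ∀ (k : ℕ) (V : Type) [AddCommGroup V] [Module (ZMod 3) V] [FiniteDimensional (ZMod 3) V]
    (s : ZMod 3) (J : Fin (2 * k) → V →ₗ[ZMod 3] V), s * s = 1 → (∀ i x, J i (J i x) = s • x) →
    (∀ i j, i ≠ j → ∀ x, J i (J j x) = -J j (J i x)) → 2 ^ k ∣ Module.finrank (ZMod 3) V := by
  intro k
  induction k with
  | zero => intro V _ _ _ s J _ _ _; simp
  | succ k ih =>
    intro V _ _ _ s J hs hsq hanti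
    let i0 : Fin (2 * (k + 1)) := ⟨0, by omega⟩
    let i1 : Fin (2 * (k + 1)) := ⟨1, by omega⟩
    have h01 : i0 ≠ i1 := fun e => by simp [i0, i1] at e
    set P := J i0
    set R := J i1
    have hPR : ∀ x, P (R x) = -R (P x) := hanti i0 i1 h01
    have hRP : ∀ x, R (P x) = -P (R x) := hanti i1 i0 h01.symm
    obtain ⟨a, c, ha, hc, hac, hcomb⟩ : ∃ a c : V →ₗ[ZMod 3] V, (∀ x, a (a x) = x) ∧ (∀ x, c (c x) = x) ∧
        (∀ x, a (c x) = -c (a x)) ∧ ∀ X : V →ₗ[ZMod 3] V, (∀ x, X (P x) = P (X x)) → (∀ x, X (R x) = R (X x)) →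
          ∀ x, X (a x) = a (X x) := by
      rcases (show ∀ s : ZMod 3, s * s = 1 → s = 1 ∨ s = -1 by decide) s hs with rfl | rfl
      · exact ⟨P, R, fun x => by rw [hsq, one_smul], fun x => by rw [hsq, one_smul], hPR, fun X h1 _ => h1⟩
      · have h3 : ∀ x : V, -x + -x = x := fun x => by
          have e : ((-1 : ZMod 3) + -1) • x = -x + -x := by rw [add_smul, neg_one_smul]
          rw [← e, show (-1 : ZMod 3) + -1 = 1 from rfl, one_smul]
        refine ⟨P + R, P - R, fun x => ?_, fun x => ?_, fun x => ?_, fun X h1 h2 x => ?_⟩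
        · simp only [LinearMap.add_apply, map_add, P, R, hsq, neg_one_smul]
          rw [show J i1 (J i0 x) = -J i0 (J i1 x) from hRP x]
          conv_rhs => rw [← h3 x]
          abel
        · simp only [LinearMap.sub_apply, map_sub, P, R, hsq, neg_one_smul]
          rw [show J i1 (J i0 x) = -J i0 (J i1 x) from hRP x]
          conv_rhs => rw [← h3 x]
          abel
        · simp only [LinearMap.add_apply, LinearMap.sub_apply, map_add, map_sub, P, R, hsq, neg_one_smul]
          rw [show J i1 (J i0 x) = -J i0 (J i1 x) from hRP x]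
          abel
        · simp only [LinearMap.add_apply, map_add, h1, h2]
    set W := LinearMap.ker (a - LinearMap.id)
    have hW : ∀ x, x ∈ W ↔ a x = x := fun x => by simp [W, sub_eq_zero]
    let e : Fin (2 * k) → Fin (2 * (k + 1)) := fun i => ⟨i.1 + 2, by omega⟩
    have he0 : ∀ i, e i ≠ i0 := fun i q => by simp [e, i0] at q
    have he1 : ∀ i, e i ≠ i1 := fun i q => by simp [e, i1] at q
    have hcP : ∀ i x, J (e i) (P (R (P x))) = P (J (e i) (P (R x))) := fun i x => by
      rw [hRP, map_neg P, hsq i0, map_neg (J (e i)), map_smul (J (e i)), hanti (e i) i0 (he0 i) (R x), map_neg P,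
        hsq i0]
    have hcR : ∀ i x, J (e i) (P (R (R x))) = R (J (e i) (P (R x))) := fun i x => by
      rw [hsq i1 x, map_smul P, map_smul (J (e i)), hanti i1 (e i) (he1 i).symm, hRP,
        map_neg (J (e i)), neg_neg, hsq i1 x, map_smul P, map_smul (J (e i))]
    let K : Fin (2 * k) → V →ₗ[ZMod 3] V := fun i => (J (e i)).comp (P.comp R)
    have hKW : ∀ i, ∀ x ∈ W, K i x ∈ W := fun i x hx =>
      (hW _).2 (by rw [← hcomb (K i) (hcP i) (hcR i), (hW x).1 hx])
    have hPPRR : ∀ x, P (R (P (R x))) = -x := fun x => by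
      rw [hRP, map_neg, hsq, hsq, smul_smul, hs, one_smul]
    have hKK : ∀ i j x, K i (K j x) = -J (e i) (J (e j) x) := by
      intro i j x
      show J (e i) (P (R (J (e j) (P (R x))))) = _
      rw [hanti i1 (e j) (he1 j).symm, map_neg P, hanti i0 (e j) (he0 j).symm, neg_neg, hPPRR, map_neg, map_neg]
    have hrec := ih W (-s) (fun i => (K i).restrict (hKW i)) (by rw [neg_mul_neg, hs]) (fun i x => Subtype.ext ?_)
      fun i j hij x => Subtype.ext ?_
    · rw [halve a c ha hc hac, pow_succ, mul_comm (2 ^ k) 2]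
      exact Nat.mul_dvd_mul_left 2 hrec
    · show K i (K i x) = (-s) • (x : V)
      rw [hKK, hsq, neg_smul]
    · show K i (K j x) = -K j (K i x)
      rw [hKK, hKK, hanti (e i) (e j) fun q => hij (Fin.ext (by simpa [e] using q))]

end CfsgLib.Fischer
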