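import Cfsg.Agent.Fischer.UniLocal
import Cfsg.Agent.Fischer.ModelsUnitary

/-!
Group elements act linearly on coordinates; moving every point to a near one.
-/

set_option autoImplicit false
set_option linter.unusedSectionVars false
set_option linter.style.haveILetI false

namespace CfsgLib.Fischer

open CfsgLib.ThreeT CfsgLib.ThreeT.Prod CfsgLib.ThreeT.Tv

universe u

variable {G : Type u} [Group G] {S : Set G}

/-- An involution moving every member to a near one. -/
def Shift (S : Set G) (g : G) : Prop := g * g = 1 ∧ ∀ p ∈ S, g * p * g⁻¹ ∈ nb S p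

/-- Conjugation by a member, as a transvection. -/
def tvecLin {V : Type*} [AddCommGroup V] [Module (ZMod 2) V] (B : LinearMap.BilinForm (ZMod 2) V) (a : V) :
    V →ₗ[ZMod 2] V := LinearMap.id + (B a).smulRight a

/-- Over two elements every group element is linear on the coordinates. -/
theorem TwoCo.linear {V : Type*} [AddCommGroup V] [Module (ZMod 2) V] {B : LinearMap.BilinForm (ZMod 2) V}
    {R : Set V} {φ : G → V} (f : TwoCo S B R φ) (hS : Closed S) {q : V → ZMod 2}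
    (hq : ∀ a ∈ R, ∀ x, q (tvec B a x) = q x) {g : G} (hg : g ∈ Subgroup.closure S) :
    ∃ L : V →ₗ[ZMod 2] V, (∀ u v, B (L u) (L v) = B u v) ∧ (∀ v, q (L v) = q v) ∧
      ∀ p ∈ S, φ (g * p * g⁻¹) = L (φ p) := by
  have htB : ∀ a ∈ R, ∀ u v, B (tvecLin B a u) (tvecLin B a v) = B u v := by
    intro a ha u v
    simp only [tvecLin, LinearMap.add_apply, LinearMap.id_coe, id_eq, LinearMap.smulRight_apply, map_add, map_smul,
      LinearMap.smul_apply, smul_eq_mul, f.self a ha, f.symm u a]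
    generalize B a u = c; generalize B a v = d; generalize B u v = e
    revert c d e; decide
  induction hg using Subgroup.closure_induction_left with
  | one => exact ⟨LinearMap.id, fun _ _ => rfl, fun _ => rfl, fun p _ => by simp⟩
  | mul_left x hx y hy ih =>
    obtain ⟨L, hB, hQ, hL⟩ := ih
    have ha := f.bij.mapsTo hx
    refine ⟨(tvecLin B (φ x)).comp L, fun u v => (htB _ ha _ _).trans (hB u v),
      fun v => (hq _ ha (L v)).trans (hQ v), fun p hp => ?_⟩
    rw [mul_inv_rev, hS.inv hx, show x * y * p * (y⁻¹ * x) = x * (y * p * y⁻¹) * x by group,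
      f.conj x hx _ (hS.conj_mem hy p hp), hL p hp]
    rfl
  | inv_mul_cancel x hx y hy ih =>
    obtain ⟨L, hB, hQ, hL⟩ := ih
    have ha := f.bij.mapsTo hx
    refine ⟨(tvecLin B (φ x)).comp L, fun u v => (htB _ ha _ _).trans (hB u v),
      fun v => (hq _ ha (L v)).trans (hQ v), fun p hp => ?_⟩
    rw [hS.inv hx, mul_inv_rev, hS.inv hx, show x * y * p * (y⁻¹ * x) = x * (y * p * y⁻¹) * x by group,
      f.conj x hx _ (hS.conj_mem hy p hp), hL p hp]
    rfl

/-- Over four elements every group element is linear on the points. -/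
theorem UC.linear {K : Type} [Field K] {n : ℕ} (W : Wt K) {φ : G → Fin n → K} (f : UC S φ) (hS : Closed S) {g : G}
    (hg : g ∈ Subgroup.closure S) :
    ∃ L : (Fin n → K) →ₗ[K] (Fin n → K), (∀ u v, Cfsg.hermForm n K 2 (L u) (L v) = Cfsg.hermForm n K 2 u v) ∧
      ∀ p ∈ S, ∃ k : K, φ (g * p * g⁻¹) = k • L (φ p) := by
  let T : (Fin n → K) → (Fin n → K) →ₗ[K] (Fin n → K) := fun v =>
    { toFun := tau v
      map_add' := fun x y => by simp only [tau, Wt.hh_add_left, add_smul]; abel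
      map_smul' := fun k x => tau_smul_right v x k }
  have hstep : ∀ x ∈ S, ∀ y ∈ Subgroup.closure S,
      (∃ L : (Fin n → K) →ₗ[K] (Fin n → K), (∀ u v, Cfsg.hermForm n K 2 (L u) (L v) = Cfsg.hermForm n K 2 u v) ∧
        ∀ p ∈ S, ∃ k : K, φ (y * p * y⁻¹) = k • L (φ p)) →
      ∃ L : (Fin n → K) →ₗ[K] (Fin n → K), (∀ u v, Cfsg.hermForm n K 2 (L u) (L v) = Cfsg.hermForm n K 2 u v) ∧
        ∀ p ∈ S, ∃ k : K, φ (x * (y * p * y⁻¹) * x) = k • L (φ p) := by
    rintro x hx y hy ⟨L, hB, hL⟩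
    refine ⟨(T (φ x)).comp L, fun u v => ?_, fun p hp => ?_⟩
    · show Cfsg.hermForm n K 2 (tau (φ x) (L u)) (tau (φ x) (L v)) = _
      rw [W.hh_tau, tau_tau W (f.iso x hx), hB]
    · obtain ⟨k, hk⟩ := hL p hp
      obtain ⟨l, hl⟩ := f.conj x hx _ (hS.conj_mem hy p hp)
      refine ⟨l * k, ?_⟩
      rw [hl, hk, tau_smul_right, smul_smul]
      rfl
  induction hg using Subgroup.closure_induction_left with
  | one => exact ⟨LinearMap.id, fun _ _ => rfl, fun p _ => ⟨1, by simp⟩⟩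
  | mul_left x hx y hy ih =>
    obtain ⟨L, hB, hL⟩ := hstep x hx y hy ih
    refine ⟨L, hB, fun p hp => ?_⟩
    rw [mul_inv_rev, hS.inv hx, show x * y * p * (y⁻¹ * x) = x * (y * p * y⁻¹) * x by group]
    exact hL p hp
  | inv_mul_cancel x hx y hy ih =>
    obtain ⟨L, hB, hL⟩ := hstep x hx y hy ih
    refine ⟨L, hB, fun p hp => ?_⟩
    rw [hS.inv hx, mul_inv_rev, hS.inv hx, show x * y * p * (y⁻¹ * x) = x * (y * p * y⁻¹) * x by group]
    exact hL p hp

/-- No shift on symplectic points. -/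
theorem shift_symp {m : ℕ} {φ : G → Fin m ⊕ Fin m → ZMod 2} (f : TwoCo S (sform m) {v | v ≠ 0} φ) (hS : Closed S)
    (hgen : Subgroup.closure S = ⊤) (hne : S.Nonempty) {g : G} (hg : Shift S g) : False := by
  obtain ⟨L, -, -, hL⟩ := f.linear hS (q := fun _ => 0) (fun _ _ _ => rfl) (hgen ▸ Subgroup.mem_top g)
  obtain ⟨p, hp⟩ := hne
  have hmove : ∀ x ∈ S, L (φ x) ≠ φ x := fun x hx e => (hg.2 x hx).2.1 (f.bij.injOn (hg.2 x hx).1 hx ((hL x hx).trans e))
  have h2 : L (L (φ p)) = φ p := by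
    rw [← hL p hp, ← hL _ (hg.2 p hp).1, show g * (g * p * g⁻¹) * g⁻¹ = g * g * p * (g * g)⁻¹ by group, hg.1]
    simp
  by_cases e : φ p + L (φ p) = 0
  · refine hmove p hp ?_
    calc L (φ p) = φ p + φ p + L (φ p) := by rw [vadd_self, zero_add]
      _ = φ p := by rw [add_assoc, e, add_zero]
  · obtain ⟨x, hx, ex⟩ := f.bij.surjOn (show φ p + L (φ p) ∈ {v | v ≠ 0} from e)
    exact hmove x hx (by rw [ex, map_add, h2, add_comm])

/-- No shift on unitary points. -/
theorem shift_uni {K : Type} [Field K] [Fintype K] (hK : Fintype.card K = 4) {n : ℕ} {φ : G → Fin n → K}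
    (f : UC S φ) (hS : Closed S) (hgen : Subgroup.closure S = ⊤) (hne : S.Nonempty) {g : G} (hg : Shift S g) :
    False := by
  obtain ⟨W⟩ := exists_wt hK
  obtain ⟨L, hB, hL⟩ := f.linear W hS (hgen ▸ Subgroup.mem_top g)
  obtain ⟨p, hp⟩ := hne
  set v := φ p
  set p' := g * p * g⁻¹ with hp'
  obtain ⟨hp'S, hp'ne, hpc⟩ := hg.2 p hp
  obtain ⟨k, hk⟩ := hL p hp
  obtain ⟨l, hl⟩ := hL p' hp'S
  have hk0 : k ≠ 0 := fun e => f.nz p' hp'S (by rw [hk, e, zero_smul])
  rw [show g * p' * g⁻¹ = p by rw [hp', show g * (g * p * g⁻¹) * g⁻¹ = g * g * p * (g * g)⁻¹ by group, hg.1]; simp,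
    hk, map_smul, smul_smul] at hl
  have hlk : l * k ≠ 0 := fun e => f.nz p hp (by rw [hl, e, zero_smul])
  set lam : K := (l * k)⁻¹ with hlam
  have hLL : L (L v) = lam • v := by
    show L (L (φ p)) = lam • φ p
    conv_rhs => rw [hl]
    rw [smul_smul, hlam, inv_mul_cancel₀ hlk, one_smul]
  have hiso : ∀ u, Cfsg.hermForm n K 2 u u = 0 → Cfsg.hermForm n K 2 (L u) (L u) = 0 := fun u hu => by rw [hB, hu]
  have hperp : Cfsg.hermForm n K 2 v (L v) = 0 := by
    have h1 := (f.com_iff W hS hp hp'S).1 hpc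
    rw [hk, Wt.hh_smul_right] at h1
    exact (mul_eq_zero.1 h1).resolve_left (pow_ne_zero _ hk0)
  set μ : K := lam ^ 2 with hμ
  have hμ2 : μ * μ = lam := by rw [hμ, ← pow_two, W.pow_four]
  set w := μ • v + L v with hw
  have hw0 : w ≠ 0 := by
    intro e
    rw [hw, add_eq_zero_iff_eq_neg'] at e
    refine hp'ne (f.inj p' hp'S p hp (k * -μ) ?_)
    show φ p' = (k * -μ) • v
    rw [hk, show L (φ p) = -(μ • v) from e, ← neg_smul, smul_smul]
  have hww : Cfsg.hermForm n K 2 w w = 0 := by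
    rw [hw, Wt.hh_add_left, W.hh_add_right, W.hh_add_right, Wt.hh_smul_left, Wt.hh_smul_left, Wt.hh_smul_right,
      Wt.hh_smul_right, f.iso p hp, hiso v (f.iso p hp), hperp, (W.hh_comm _ _).1 hperp]
    simp
  have hLw : L w = μ • w := by
    rw [hw, map_add, map_smul, hLL, smul_add, smul_smul, hμ2, add_comm]
  obtain ⟨x, hx, a, ha, ex⟩ := f.exists_rep W hw0 hww
  obtain ⟨c, hc⟩ := hL x hx
  refine (hg.2 x hx).2.1 (f.inj _ (hg.2 x hx).1 x hx (c * μ) ?_)
  rw [hc, ex, map_smul, hLw, smul_smul, smul_smul, smul_smul]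
  ring_nf

/-- No shift on transpositions. -/
theorem shift_sym {m : ℕ} (hm : 2 ≤ m) (e : G ≃* Equiv.Perm (Fin m))
    (he : e '' S = {σ : Equiv.Perm (Fin m) | σ.IsSwap}) {g : G} (hg : Shift S g) : False := by
  have hmove : ∀ i j : Fin m, i ≠ j → Equiv.swap (e g i) (e g j) ≠ Equiv.swap i j := by
    intro i j hij q
    obtain ⟨p, hp, ep⟩ := he.ge (show Equiv.swap i j ∈ {σ : Equiv.Perm (Fin m) | σ.IsSwap} from ⟨i, j, hij, rfl⟩)
    refine (hg.2 p hp).2.1 (e.injective ?_)
    rw [map_mul, map_mul, map_inv, ep, ← Equiv.swap_apply_apply, q]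
  have hinv : ∀ i, e g (e g i) = i := fun i => by
    rw [← Equiv.Perm.mul_apply, ← map_mul, hg.1, map_one]; rfl
  have hfix : ∀ i, e g i = i := by
    intro i
    by_contra h
    exact hmove i (e g i) (Ne.symm h) (by rw [hinv, Equiv.swap_comm])
  exact hmove ⟨0, by omega⟩ ⟨1, by omega⟩ (fun q => by simp [Fin.ext_iff] at q) (by rw [hfix, hfix])

end CfsgLib.Fischer
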