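import Cfsg.Agent.Fischer.QuadNormal
import Cfsg.Agent.Fischer.Disc.Linear

/-!
Creation and annihilation operators from shifts over two elements.
-/

set_option autoImplicit false
set_option linter.unusedSectionVars false
set_option linter.style.haveILetI false

namespace CfsgLib.Fischer

open CfsgLib.ThreeT CfsgLib.ThreeT.Prod

universe u

variable {m : ℕ}

/-- A nilpotent self-adjoint operator with singular image. -/
structure FOp (q : (Fin m ⊕ Fin m → ZMod 2) → ZMod 2) (A : (Fin m ⊕ Fin m → ZMod 2) →ₗ[ZMod 2] (Fin m ⊕ Fin m → ZMod 2)) : Prop where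
  adj : ∀ u v, sform m (A u) v = sform m u (A v)
  sq : ∀ u, A (A u) = 0
  sing : ∀ u, q (A u) = 0

/-- Operators with the relations of creation and annihilation. -/
structure FRep (q : (Fin m ⊕ Fin m → ZMod 2) → ZMod 2) {r : ℕ} (a b : Fin r → (Fin m ⊕ Fin m → ZMod 2) →ₗ[ZMod 2] (Fin m ⊕ Fin m → ZMod 2)) : Prop where
  opa : ∀ i, FOp q (a i)
  opb : ∀ i, FOp q (b i)
  caa : ∀ i j u, a i (a j u) = a j (a i u)
  cbb : ∀ i j u, b i (b j u) = b j (b i u)
  cab : ∀ i j, i ≠ j → ∀ u, a i (b j u) = b j (a i u)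
  anti : ∀ i u, a i (b i u) + b i (a i u) = u

theorem sform_nondeg {v : (Fin m ⊕ Fin m → ZMod 2)} (h : ∀ t, sform m v t = 0) : v = 0 := by
  by_contra hv
  obtain ⟨t, ht⟩ := sform_exists hv
  rw [h t] at ht
  exact absurd ht (by decide)

namespace FRep

variable {q : (Fin m ⊕ Fin m → ZMod 2) → ZMod 2} {r : ℕ} {a b : Fin r → (Fin m ⊕ Fin m → ZMod 2) →ₗ[ZMod 2] (Fin m ⊕ Fin m → ZMod 2)} (R : FRep q a b)
include R

theorem vacuum (hm : 0 < m) : ∃ v : (Fin m ⊕ Fin m → ZMod 2), v ≠ 0 ∧ ∀ i, a i v = 0 := by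
  classical
  suffices h : ∀ s : Finset (Fin r), ∃ v : (Fin m ⊕ Fin m → ZMod 2), v ≠ 0 ∧ ∀ i ∈ s, a i v = 0 by
    obtain ⟨v, hv, h⟩ := h Finset.univ
    exact ⟨v, hv, fun i => h i (Finset.mem_univ _)⟩
  intro s
  induction s using Finset.induction_on with
  | empty =>
    exact ⟨Pi.single (Sum.inl ⟨0, hm⟩) 1, fun e => absurd (congrFun e (Sum.inl ⟨0, hm⟩)) (by simp), by simp⟩
  | insert k s hk ih =>
    obtain ⟨v, hv, h⟩ := ih
    by_cases e : a k v = 0
    · exact ⟨v, hv, fun i hi => by rcases Finset.mem_insert.1 hi with rfl | hi; exacts [e, h i hi]⟩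
    · refine ⟨a k v, e, fun i hi => ?_⟩
      rcases Finset.mem_insert.1 hi with rfl | hi
      · exact (R.opa _).sq v
      · rw [R.caa, h i hi, map_zero]

/-- The words in the creation operators on a vacuum are independent. -/
theorem fock {v : (Fin m ⊕ Fin m → ZMod 2)} (hv : v ≠ 0) (hva : ∀ i, a i v = 0) :
    ∃ U : Submodule (ZMod 2) (Fin m ⊕ Fin m → ZMod 2), Module.finrank (ZMod 2) U = 2 ^ r ∧
      ∀ M : Submodule (ZMod 2) (Fin m ⊕ Fin m → ZMod 2), v ∈ M → (∀ i, ∀ x ∈ M, b i x ∈ M) → U ≤ M := by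
  classical
  suffices h : ∀ s : Finset (Fin r), ∃ U : Submodule (ZMod 2) (Fin m ⊕ Fin m → ZMod 2), Module.finrank (ZMod 2) U = 2 ^ s.card ∧
      (∀ i ∉ s, ∀ x ∈ U, a i x = 0) ∧
      ∀ M : Submodule (ZMod 2) (Fin m ⊕ Fin m → ZMod 2), v ∈ M → (∀ i, ∀ x ∈ M, b i x ∈ M) → U ≤ M by
    obtain ⟨U, h1, -, h3⟩ := h Finset.univ
    exact ⟨U, by rwa [Finset.card_univ, Fintype.card_fin] at h1, h3⟩
  intro s
  induction s using Finset.induction_on with
  | empty =>
    refine ⟨Submodule.span (ZMod 2) {v}, ?_, fun i _ x hx => ?_, fun M hM _ => ?_⟩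
    · rw [finrank_span_singleton hv, Finset.card_empty, pow_zero]
    · obtain ⟨c, rfl⟩ := Submodule.mem_span_singleton.1 hx
      rw [(a i).map_smul c v, hva i]
      exact smul_zero c
    · exact (Submodule.span_singleton_le_iff_mem v M).2 hM
  | insert k s hk ih =>
    obtain ⟨U, h1, h2, h3⟩ := ih
    let f : U × U →ₗ[ZMod 2] (Fin m ⊕ Fin m → ZMod 2) := U.subtype.coprod ((b k).comp U.subtype)
    have hf : ∀ x y : U, f (x, y) = (x : (Fin m ⊕ Fin m → ZMod 2)) + b k y := fun x y => rfl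
    have hinj : Function.Injective f := by
      rw [injective_iff_map_eq_zero]
      rintro ⟨x, y⟩ e
      rw [hf] at e
      have h4 := congrArg (a k) e
      rw [map_add, h2 k hk x x.2, zero_add, map_zero] at h4
      have h5 := R.anti k (y : (Fin m ⊕ Fin m → ZMod 2))
      rw [h4, h2 k hk y y.2, map_zero, zero_add] at h5
      rw [← h5, map_zero, add_zero] at e
      exact _root_.Prod.ext (Subtype.ext e) (Subtype.ext h5.symm)
    refine ⟨LinearMap.range f, ?_, fun i hi x hx => ?_, fun M hM hb => ?_⟩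
    · rw [LinearMap.finrank_range_of_inj hinj, Module.finrank_prod, h1, Finset.card_insert_of_notMem hk]
      ring
    · obtain ⟨⟨p, w⟩, rfl⟩ := hx
      rw [Finset.mem_insert, not_or] at hi
      rw [hf, map_add, h2 i hi.2 p p.2, R.cab i k hi.1, h2 i hi.2 w w.2, map_zero, add_zero]
    · rintro _ ⟨⟨p, w⟩, rfl⟩
      rw [hf]
      exact M.add_mem (h3 M hM hb p.2) (hb k _ (h3 M hM hb w.2))

theorem bound (hm : 0 < m) : 2 ^ r ≤ 2 * m := by
  obtain ⟨v, hv, hva⟩ := R.vacuum hm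
  obtain ⟨U, hU, -⟩ := R.fock hv hva
  have := Submodule.finrank_le U
  rw [hU, Module.finrank_fintype_fun_eq_card, Fintype.card_sum, Fintype.card_fin] at this
  omega

end FRep

section three

variable {q : (Fin 4 ⊕ Fin 4 → ZMod 2) → ZMod 2}
  {a b : Fin 3 → (Fin 4 ⊕ Fin 4 → ZMod 2) →ₗ[ZMod 2] (Fin 4 ⊕ Fin 4 → ZMod 2)}

/-- The words on a vacuum. -/
def fockWord (b : Fin 3 → (Fin 4 ⊕ Fin 4 → ZMod 2) →ₗ[ZMod 2] (Fin 4 ⊕ Fin 4 → ZMod 2))
    (v : Fin 4 ⊕ Fin 4 → ZMod 2) : Fin 4 ⊕ Fin 4 → (Fin 4 ⊕ Fin 4 → ZMod 2) :=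
  Sum.elim ![v, b 0 v, b 1 v, b 2 v] ![b 0 (b 1 (b 2 v)), b 1 (b 2 v), b 0 (b 2 v), b 0 (b 1 v)]

/-- Three pairs fix a hyperbolic basis. -/
theorem FRep.frame (hq : IsQ 4 q) (R : FRep q a b) :
    ∃ v, (∀ i, a i v = 0) ∧ ∃ Φ : (Fin 4 ⊕ Fin 4 → ZMod 2) ≃ₗ[ZMod 2] (Fin 4 ⊕ Fin 4 → ZMod 2),
      (∀ x, q (Φ x) = qplus 4 x) ∧ ∀ k, Φ (Pi.single k 1) = fockWord b v k := by
  classical
  obtain ⟨v, hv, hva⟩ := R.vacuum (show 0 < 4 by norm_num)
  refine ⟨v, hva, ?_⟩
  have av : ∀ i, a i (b i v) = v := fun i => by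
    have := R.anti i v
    rwa [hva, map_zero, add_zero] at this
  have hz : ∀ j, ∀ X : Fin 4 ⊕ Fin 4 → ZMod 2, a j X = 0 → sform 4 v X = 0 := fun j X hX => by
    rw [← av j, (R.opa j).adj, hX, map_zero]
  have z0 : sform 4 v v = 0 := hz 0 v (hva 0)
  have z1 : ∀ i, sform 4 v (b i v) = 0 := by
    intro i
    obtain ⟨j, hj⟩ := exists_ne i
    exact hz j _ (by rw [R.cab j i hj, hva, map_zero])
  have z2 : ∀ i k, sform 4 v (b i (b k v)) = 0 := by
    intro i k
    obtain ⟨j, hji, hjk⟩ : ∃ j, j ≠ i ∧ j ≠ k := by revert i k; decide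
    exact hz j _ (by rw [R.cab j i hji, R.cab j k hjk, hva, map_zero, map_zero])
  have adj : ∀ i x y, sform 4 (b i x) y = sform 4 x (b i y) := fun i => (R.opb i).adj
  have sq : ∀ i x, b i (b i x) = 0 := fun i => (R.opb i).sq
  have s10 : ∀ x, b 1 (b 0 x) = b 0 (b 1 x) := R.cbb 1 0
  have s20 : ∀ x, b 2 (b 0 x) = b 0 (b 2 x) := R.cbb 2 0
  have s21 : ∀ x, b 2 (b 1 x) = b 1 (b 2 x) := R.cbb 2 1
  set c := sform 4 v (b 0 (b 1 (b 2 v))) with hc
  set w := fockWord b v with hw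
  have z3 : CfsgLib.Symp.form v 0 = 0 := by rw [← sform_apply, map_zero]
  have hgram : ∀ k l, sform 4 (w k) (w l) = c * sform 4 (Pi.single k 1) (Pi.single l 1) := by
    intro k l
    rcases k with k | k <;> rcases l with l | l <;> fin_cases k <;> fin_cases l <;>
      simp [hw, fockWord, adj, sq, s10, s20, s21, z0, z1, z2, z3, hc, sform_apply, CfsgLib.Symp.form_single_inl,
        CfsgLib.Symp.form_single_inr, CharTwo.neg_eq]
  have hsing : ∀ k, q (w k) = 0 := by
    have qv : q v = 0 := av 0 ▸ (R.opa 0).sing _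
    intro k
    rcases k with k | k <;> fin_cases k <;> simp [hw, fockWord, qv, (R.opb 0).sing, (R.opb 1).sing, (R.opb 2).sing]
  set Φ : (Fin 4 ⊕ Fin 4 → ZMod 2) →ₗ[ZMod 2] (Fin 4 ⊕ Fin 4 → ZMod 2) :=
    (Pi.basisFun (ZMod 2) (Fin 4 ⊕ Fin 4)).constr (ZMod 2) w with hΦdef
  have hΦ : ∀ k, Φ (Pi.single k 1) = w k := fun k => by
    rw [hΦdef, ← Pi.basisFun_apply (R := ZMod 2) (η := Fin 4 ⊕ Fin 4), Module.Basis.constr_basis]
  -- the words span
  obtain ⟨U, hU, hUle⟩ := R.fock hv hva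
  have hspan : LinearMap.range Φ = ⊤ := by
    have hr : LinearMap.range Φ = Submodule.span (ZMod 2) (Set.range w) := by
      rw [hΦdef, Module.Basis.constr_range]
    have hmem : ∀ k, w k ∈ Submodule.span (ZMod 2) (Set.range w) := fun k => Submodule.subset_span ⟨k, rfl⟩
    have hle : U ≤ Submodule.span (ZMod 2) (Set.range w) := by
      refine hUle _ (by simpa [hw, fockWord] using hmem (Sum.inl 0)) fun i x hx => ?_
      induction hx using Submodule.span_induction with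
      | mem x hx =>
        obtain ⟨k, rfl⟩ := hx
        have e0 := hmem (Sum.inl 1); have e1 := hmem (Sum.inl 2); have e2 := hmem (Sum.inl 3)
        have f0 := hmem (Sum.inr 0); have f1 := hmem (Sum.inr 1); have f2 := hmem (Sum.inr 2); have f3 := hmem (Sum.inr 3)
        simp only [hw, fockWord, Sum.elim_inl, Sum.elim_inr] at e0 e1 e2 f0 f1 f2 f3
        rcases k with k | k <;> fin_cases k <;> fin_cases i <;>
          simp [hw, fockWord, sq, s10, s20, s21] at e0 e1 e2 f0 f1 f2 f3 ⊢ <;>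
          assumption
      | zero => rw [map_zero]; exact Submodule.zero_mem _
      | add x y _ _ hx hy => rw [map_add]; exact Submodule.add_mem _ hx hy
      | smul t x _ hx => rw [map_smul]; exact Submodule.smul_mem _ _ hx
    rw [hr]
    refine Submodule.eq_top_of_finrank_eq (le_antisymm (Submodule.finrank_le _) ?_)
    refine le_trans ?_ (Submodule.finrank_mono hle)
    rw [hU, Module.finrank_fintype_fun_eq_card]
    simp
  have hc1 : c = 1 := by
    refine (two_ne_iff c).1 fun e => hv (sform_nondeg fun t => ?_)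
    obtain ⟨x, rfl⟩ := LinearMap.range_eq_top.1 hspan t
    have : (sform 4 v).comp Φ = 0 := (Pi.basisFun (ZMod 2) (Fin 4 ⊕ Fin 4)).ext fun k => by
      rw [LinearMap.comp_apply, Pi.basisFun_apply, hΦ, LinearMap.zero_apply]
      have := hgram (Sum.inl 0) k
      rw [e, zero_mul] at this
      simpa [hw, fockWord] using this
    exact LinearMap.congr_fun this x
  have hform : ∀ x y, sform 4 (Φ x) (Φ y) = sform 4 x y := by
    have : (sform 4).compl₁₂ Φ Φ = sform 4 := (Pi.basisFun (ZMod 2) (Fin 4 ⊕ Fin 4)).ext fun k =>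
      (Pi.basisFun (ZMod 2) (Fin 4 ⊕ Fin 4)).ext fun l => by
        rw [LinearMap.compl₁₂_apply, Pi.basisFun_apply, Pi.basisFun_apply, hΦ, hΦ, hgram, hc1, one_mul]
    exact fun x y => LinearMap.congr_fun (LinearMap.congr_fun this x) y
  have hq0 : q 0 = 0 := by
    have := hq 0 0
    simp only [add_zero, map_zero] at this
    simpa using this
  have hqΦ : ∀ x, q (Φ x) = qplus 4 x := by
    let d : (Fin 4 ⊕ Fin 4 → ZMod 2) →+ ZMod 2 :=
      { toFun := fun x => q (Φ x) + qplus 4 x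
        map_zero' := by rw [map_zero, hq0]; simp [qplus]
        map_add' := fun x y => by
          show q (Φ (x + y)) + qplus 4 (x + y) = _
          rw [map_add, hq, qplus_isQ 4 x y, hform]
          exact (show ∀ p r s t e : ZMod 2, p + r + e + (s + t + e) = p + s + (r + t) by decide) _ _ _ _ _ }
    have hd : (d.toZModLinearMap 2) = 0 := (Pi.basisFun (ZMod 2) (Fin 4 ⊕ Fin 4)).ext fun k => by
      show q (Φ (Pi.basisFun (ZMod 2) (Fin 4 ⊕ Fin 4) k)) + qplus 4 (Pi.basisFun (ZMod 2) (Fin 4 ⊕ Fin 4) k) = 0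
      rw [Pi.basisFun_apply, hΦ, hsing, zero_add, qplus]
      rcases k with k | k <;> simp [Pi.single_apply]
    intro x
    have := LinearMap.congr_fun hd x
    exact (show ∀ p s : ZMod 2, p + s = 0 → p = s by decide) _ _ this
  exact ⟨LinearEquiv.ofBijective Φ ⟨(LinearMap.injective_iff_surjective).2 (LinearMap.range_eq_top.1 hspan),
    LinearMap.range_eq_top.1 hspan⟩, hqΦ, hΦ⟩

/-- The elliptic form carries no three pairs. -/
theorem qminus_ne_qplus (Φ : (Fin 4 ⊕ Fin 4 → ZMod 2) → (Fin 4 ⊕ Fin 4 → ZMod 2)) (hΦ : Function.Bijective Φ)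
    (h : ∀ x, qminus 3 (Φ x) = qplus 4 x) : False := by
  have h1 : (Finset.univ.filter fun x : Fin 4 ⊕ Fin 4 → ZMod 2 => qplus 4 x = 1).card =
      (Finset.univ.filter fun x : Fin 4 ⊕ Fin 4 → ZMod 2 => qminus 3 x = 1).card := by
    refine Finset.card_bij (fun x _ => Φ x) (fun x hx => ?_) (fun x _ y _ e => hΦ.1 e) fun y hy => ?_
    · simpa [h] using hx
    · obtain ⟨x, rfl⟩ := hΦ.2 y
      exact ⟨x, by simpa [h] using hy, rfl⟩
  have h2 : (Finset.univ.filter fun x : Fin 4 ⊕ Fin 4 → ZMod 2 => qplus 4 x = 1).card = 120 := by decide +kernel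
  have h3 : (Finset.univ.filter fun x : Fin 4 ⊕ Fin 4 → ZMod 2 =>
      qplus 4 x + (x (Sum.inr 0) + x (Sum.inl 0)) = 1).card = 136 := by decide +kernel
  have h4 : (Finset.univ.filter fun x : Fin 4 ⊕ Fin 4 → ZMod 2 => qminus 3 x = 1) =
      Finset.univ.filter fun x : Fin 4 ⊕ Fin 4 → ZMod 2 => qplus 4 x + (x (Sum.inr 0) + x (Sum.inl 0)) = 1 := by
    refine Finset.filter_congr fun x _ => ?_
    rw [qminus, sform_delta0]
  rw [h2, h4, h3] at h1
  omega

end three

end CfsgLib.Fischer
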