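import Cfsg.Agent.Fischer.Disc.Basic

/-!
A class with disconnected commuting graph: a component is one class of its group.
-/

set_option autoImplicit false
set_option linter.unusedSectionVars false
set_option linter.style.haveILetI false

namespace CfsgLib.Fischer

open CfsgLib.ThreeT CfsgLib.ThreeT.Prod

universe u

/-- Elements of order at most three: no commuting pair of involutions beside an inverted element. -/
theorem small_order_false {Γ : Type*} [Group Γ] {g j k : Γ}
    (hall : ∀ X ∈ Subgroup.closure ({g, j, k} : Set Γ), X * X = 1 ∨ X * X * X = 1)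
    (hg : g * g = 1) (hg1 : g ≠ 1) (hj : j * j = 1) (hj1 : j ≠ 1) (hjg : j * g = g * j) (hne : g * j ≠ 1)
    (hk : k * k * k = 1) (hk1 : k ≠ 1) (hinv : g * k * g = k * k) : False := by
  have mg : g ∈ Subgroup.closure ({g, j, k} : Set Γ) := Subgroup.subset_closure (Or.inl rfl)
  have mj : j ∈ Subgroup.closure ({g, j, k} : Set Γ) := Subgroup.subset_closure (Or.inr (Or.inl rfl))
  have mk' : k ∈ Subgroup.closure ({g, j, k} : Set Γ) := Subgroup.subset_closure (Or.inr (Or.inr rfl))
  have six : ∀ a ∈ Subgroup.closure ({g, j, k} : Set Γ), a * a = 1 → a ≠ 1 → a * k = k * a → False := by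
    intro a ma ha ha1 hak
    have e2 : a * k * (a * k) = k * k := by
      calc a * k * (a * k) = a * (k * a) * k := by group
        _ = (a * a) * k * k := by rw [← hak]; group
        _ = k * k := by rw [ha, one_mul]
    rcases hall _ (mul_mem ma mk') with q | q
    · rw [e2] at q
      rw [q, one_mul] at hk
      exact hk1 hk
    · rw [e2, ← mul_assoc, show k * k * a = a * (k * k) by rw [mul_assoc, ← hak, ← mul_assoc, ← hak, mul_assoc],
        mul_assoc a, hk, mul_one] at q
      exact ha1 q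
  have conj_of_sq : ∀ a : Γ, a * a = 1 → a * k * (a * k) = 1 → a * k * a = k * k := by
    intro a ha q
    have e1 : a * k * a = k⁻¹ := eq_inv_of_mul_eq_one_left (by rw [← q]; group)
    rw [e1]
    exact inv_eq_of_mul_eq_one_right (by rw [← mul_assoc, hk])
  have hgj2 : g * j * (g * j) = 1 := by
    calc g * j * (g * j) = g * (j * g) * j := by group
      _ = (g * g) * (j * j) := by rw [hjg]; group
      _ = 1 := by rw [hg, hj, one_mul]
  have hgg : ∀ z, g * (g * z) = z := fun z => by rw [← mul_assoc, hg, one_mul]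
  rcases hall _ (mul_mem mj mk') with q | hT
  · refine six (g * j) (mul_mem mg mj) hgj2 hne ?_
    have h2 : (g * j) * k * (g * j) = k := by
      calc g * j * k * (g * j) = g * j * k * (j * g) := by rw [hjg]
        _ = g * (j * k * j) * g := by group
        _ = (g * k * g) * (g * k * g) := by
            rw [conj_of_sq j hj q]
            calc g * (k * k) * g = g * k * (g * g) * k * g := by rw [hg, mul_one]; group
              _ = (g * k * g) * (g * k * g) := by group
        _ = k * k * k * k := by rw [hinv]; group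
        _ = k := by rw [hk, one_mul]
    calc g * j * k = g * j * k * (g * j * (g * j)) := by rw [hgj2, mul_one]
      _ = (g * j * k * (g * j)) * (g * j) := by group
      _ = k * (g * j) := by rw [h2]
  rcases hall _ (mul_mem (mul_mem mg mj) mk') with q | hU
  · refine six j mj hj hj1 ?_
    have h2 : j * k * j = k := by
      calc j * k * j = g * ((g * j) * k * (g * j)) * g := by
            calc j * k * j = (g * g) * j * k * (g * g) * j := by rw [hg, one_mul, mul_one]
              _ = g * (g * j * k * g) * (g * j) := by group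
              _ = g * (g * j * k * g) * (j * g) := by rw [hjg]
              _ = g * ((g * j) * k * (g * j)) * g := by group
        _ = g * (k * k) * g := by rw [conj_of_sq _ hgj2 q]
        _ = (g * k * g) * (g * k * g) := by
            calc g * (k * k) * g = g * k * (g * g) * k * g := by rw [hg, mul_one]; group
              _ = (g * k * g) * (g * k * g) := by group
        _ = k * k * k * k := by rw [hinv]; group
        _ = k := by rw [hk, one_mul]
    calc j * k = j * k * (j * j) := by rw [hj, mul_one]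
      _ = (j * k * j) * j := by group
      _ = k * j := by rw [h2]
  -- both of order three: the first has fourth power one
  set c := g * k with hc
  have hgc : g * c = k := hgg k
  have hc2 : c * c = 1 := by rw [hc, ← mul_assoc, hinv, hk]
  have hac : j * c * j = c * j * c := by
    have e : g * j * k = j * c := by rw [hc, ← mul_assoc, hjg]
    rw [e] at hU
    calc j * c * j = (j * c * (j * c) * (j * c)) * (c⁻¹ * j⁻¹ * c⁻¹) := by group
      _ = c⁻¹ * j⁻¹ * c⁻¹ := by rw [hU, one_mul]
      _ = c * j * c := by rw [inv_eq_of_mul_eq_one_right hc2, inv_eq_of_mul_eq_one_right hj]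
  have hT2 : j * k * (j * k) = g * c * j * c * g * c := by
    calc j * k * (j * k) = j * g * c * (j * g) * c := by rw [← hgc]; group
      _ = g * (j * c * j) * g * c := by rw [hjg]; calc g * j * c * (g * j) * c = g * j * c * (j * g) * c := by rw [hjg]
                _ = g * (j * c * j) * g * c := by group
      _ = g * c * j * c * g * c := by rw [hac]; group
  have hcgcg : c * g * c * g = k := by
    have e : c * g = k * k := by rw [hc, hinv]
    rw [show c * g * c * g = (c * g) * (c * g) by group, e, show k * k * (k * k) = k * k * k * k by group, hk, one_mul]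
  have hT4 : j * k * (j * k) * (j * k * (j * k)) = 1 := by
    rw [hT2]
    calc g * c * j * c * g * c * (g * c * j * c * g * c)
        = g * c * j * (c * g * c * g) * c * j * c * g * c := by group
      _ = g * c * j * g * (c * c) * j * c * g * c := by rw [hcgcg, ← hgc]; group
      _ = g * c * (j * g * j) * c * g * c := by rw [hc2, mul_one]; group
      _ = (g * c) * (g * c) * (g * c) := by rw [hjg, mul_assoc g j j, hj, mul_one]; group
      _ = 1 := by rw [hgc, hk]
  have hT1 : j * k = 1 := by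
    calc j * k = (j * k * (j * k) * (j * k)) * (j * k) := by rw [hT, one_mul]
      _ = j * k * (j * k) * (j * k * (j * k)) := by group
      _ = 1 := hT4
  have hkj : k = j := by
    rw [← inv_eq_of_mul_eq_one_right hT1]; exact inv_eq_of_mul_eq_one_right hj
  rw [hkj, hj, one_mul] at hk
  exact hj1 hk

/-- Joined by far pairs inside a set. -/
def FLink {G : Type u} [Group G] (S : Set G) : G → G → Prop :=
  Relation.ReflTransGen fun p q => p ∈ S ∧ q ∈ S ∧ ¬ Commute p q

theorem FLink.symm {G : Type u} [Group G] {S : Set G} {a b : G} (h : FLink S a b) : FLink S b a := by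
  induction h with
  | refl => exact Relation.ReflTransGen.refl
  | tail _ hpq ih => exact Relation.ReflTransGen.head ⟨hpq.2.1, hpq.1, fun c => hpq.2.2 c.symm⟩ ih

theorem FLink.mem {G : Type u} [Group G] {S : Set G} {a b : G} (ha : a ∈ S) (h : FLink S a b) : b ∈ S := by
  induction h with
  | refl => exact ha
  | tail _ hpq _ => exact hpq.2.1

variable {G : Type u} [Group G] [Finite G] {D : Set G}

namespace Disc

variable (h : Disc D)
include h

/-- Across an outside member, linked members carry a linked class onto itself, and all of it. -/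
theorem flink_orbit {x b : G} (hx : x ∈ D) (hb : b ∈ D) (hbx : b ∉ comp D x) :
    (∀ p q, FLink (comp D x) x p → FLink (comp D x) x q → ∀ b', FLink (comp D b) b b' →
      FLink (comp D b) b (p * q * b' * (p * q)⁻¹)) ∧
    ∀ b', FLink (comp D b) b b' → ∀ p, FLink (comp D x) x p →
      ∃ q, FLink (comp D x) x q ∧ p * q * b * (p * q)⁻¹ = b' := by
  have hS := h.closed
  have hmx : ∀ {p}, FLink (comp D x) x p → p ∈ comp D x := fun hp => hp.mem (mem_comp_self hx)
  have hout : ∀ {b'}, b' ∈ comp D b → b' ∉ comp D x := fun hb' e =>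
    hbx ((comp_eq e).symm.trans (comp_eq hb') ▸ mem_comp_self hb)
  constructor
  · intro p q hp hq b' hb'
    refine hb'.trans ?_
    have hbc := hb'.mem (mem_comp_self hb)
    have key : ∀ r, Relation.ReflTransGen (fun s t => s ∈ comp D x ∧ t ∈ comp D x ∧ ¬ Commute s t) p r →
        FLink (comp D b) b' (p * r * b' * (p * r)⁻¹) := by
      intro r hr
      induction hr with
      | refl => rw [hS.sq (hmx hp).1, one_mul, inv_one, mul_one]; exact Relation.ReflTransGen.refl
      | @tail s t hps hst ih =>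
        obtain ⟨hs, ht, hc⟩ := hst
        have hps' : s ∈ comp D x := hs
        refine ih.tail ⟨?_, ?_, fun c => hc ?_⟩
        · rw [← comp_eq hbc]; exact h.shift_comp (hmx hp) hs hbc.1
        · rw [← comp_eq hbc]; exact h.shift_comp (hmx hp) ht hbc.1
        · refine (shift_iff hS hs.1 ht.1 hbc.1 (h.far_out hs hbc.1 (hout hbc)) (h.far_out ht hbc.1 (hout hbc))).1 ?_
          have e : ∀ w, p * w * b' * (p * w)⁻¹ = (p * s) * (s * w * b' * (s * w)⁻¹) * (p * s)⁻¹ := fun w => by
            rw [show (p * s) * (s * w * b' * (s * w)⁻¹) * (p * s)⁻¹ = p * (s * s) * w * b' * (p * (s * s) * w)⁻¹ by group,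
              hS.sq hs.1, mul_one]
          rw [e t, e s, commute_conj_iff] at c
          rw [hS.sq hs.1, one_mul, inv_one, mul_one] at c
          exact c.symm
    exact key q (hp.symm.trans hq)
  · intro b' hb'
    induction hb' with
    | refl => exact fun p hp => ⟨p, hp, by rw [hS.sq (hmx hp).1]; simp⟩
    | @tail s t hbs hst ih =>
      intro p hp
      obtain ⟨r, hr, hrs⟩ := ih p hp
      obtain ⟨hs, ht, hc⟩ := hst
      set q := b * (p * t * p⁻¹) * b⁻¹ with hq
      have hr' := hmx hr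
      have e1 : r * b * r⁻¹ = p * s * p⁻¹ := by
        rw [← hrs, hS.inv (hmx hp).1, hS.inv hr'.1, mul_inv_rev, hS.inv (hmx hp).1, hS.inv hr'.1]
        calc r * b * r = (p * p) * r * b * r * (p * p) := by rw [hS.sq (hmx hp).1, one_mul, mul_one]
          _ = _ := by group
      have hqD : q ∈ D := h.mem (h.mem ht.1 p) b
      have hrbr : b * (r * b * r⁻¹) * b⁻¹ = r := by
        rw [hS.inv hb, hS.inv hr'.1, hS.braid hr'.1 hb (h.far_out hr' hb (hout (mem_comp_self hb))),
          hS.conj_conj hb]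
      have hqC : q ∈ comp D x := by
        have h1 : t ∈ comp D s := by rw [comp_eq hs]; exact ht
        have h2 := h.conj_in (g := b) (h.conj_in (g := p) h1)
        rw [← e1, hrbr] at h2
        rw [← comp_eq hr']
        exact h2
      have hqr : ¬ Commute r q := fun c => hc (by
        rw [← hrbr, e1, hq, commute_conj_iff, commute_conj_iff] at c
        exact c)
      refine ⟨q, hr.tail ⟨hr', hqC, hqr⟩, ?_⟩
      have hbq : ¬ Commute b q := fun c => h.far_out hqC hb (hout (mem_comp_self hb)) c.symm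
      have e2 : q * b * q = p * t * p⁻¹ := by
        rw [hS.braid hqD hb fun c => hbq c.symm, hq, hS.inv hb, hS.conj_conj hb]
      rw [mul_inv_rev, hS.inv hqD, show p * q * b * (q * p⁻¹) = p * (q * b * q) * p⁻¹ by group, e2,
        hS.inv (hmx hp).1, hS.conj_conj (hmx hp).1]

/-- Two members of a component are linked by far pairs. -/
theorem comp_flink {a x y : G} (hx' : x ∈ comp D a) (hy' : y ∈ comp D a) : FLink (comp D a) x y := by
  classical
  rw [← comp_eq hx'] at hy' ⊢
  have hx := hx'.1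
  clear hx' a
  by_contra hxy
  have hS := h.closed
  obtain ⟨b, hb, hbx⟩ := h.exists_other x
  have hby : b ∉ comp D y := by rw [comp_eq hy']; exact hbx
  set E := FLink (comp D x) x with hE
  set E' := FLink (comp D x) y with hE'
  set B := FLink (comp D b) b with hB
  have hmE : ∀ {p}, E p → p ∈ comp D x := fun hp => hp.mem (mem_comp_self hx)
  have hmE' : ∀ {p}, E' p → p ∈ comp D x := fun hp => hp.mem hy'
  have hsep : ∀ {p q}, E p → E' q → Commute p q := fun {p q} hp hq => by
    by_contra hc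
    exact hxy ((hp.tail ⟨hmE hp, hmE' hq, hc⟩).trans hq.symm)
  obtain ⟨hBmap, hBsurj⟩ := h.flink_orbit hx hb hbx
  obtain ⟨-, hBsurj'⟩ := h.flink_orbit hy'.1 hb hby
  rw [comp_eq hy'] at hBsurj'
  -- what agrees at one point agrees on the whole class
  let Good : G → Prop := fun g => (∀ p q, E' p → E' q → Commute g (p * q)) ∧ ∀ b', B b' → B (g * b' * g⁻¹)
  have hgoodE : ∀ {p q}, E p → E q → Good (p * q) := fun {p q} hp hq =>
    ⟨fun r s hr hs => ((hsep hp hr).mul_right (hsep hp hs)).mul_left ((hsep hq hr).mul_right (hsep hq hs)),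
      fun b' hb' => hBmap p q hp hq b' hb'⟩
  have hagree : ∀ {g g'}, Good g → Good g' → g * b * g⁻¹ = g' * b * g'⁻¹ → ∀ b', B b' →
      g * b' * g⁻¹ = g' * b' * g'⁻¹ := by
    intro g g' hg hg' e b' hb'
    obtain ⟨q, hq, rfl⟩ := hBsurj' b' hb' y Relation.ReflTransGen.refl
    have h0 : E' y := Relation.ReflTransGen.refl
    have key : ∀ u, Good u → u * (y * q * b * (y * q)⁻¹) * u⁻¹ = y * q * (u * b * u⁻¹) * (y * q)⁻¹ := by
      intro u hu
      calc u * (y * q * b * (y * q)⁻¹) * u⁻¹ = (u * (y * q)) * b * (u * (y * q))⁻¹ := by group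
        _ = (y * q * u) * b * (y * q * u)⁻¹ := by rw [(hu.1 y q h0 hq).eq]
        _ = _ := by group
    rw [key g hg, key g' hg', e]
  have hgood1 : Good 1 := ⟨fun _ _ _ _ => Commute.one_left _, fun b' hb' => by simpa using hb'⟩
  have hgoodmul : ∀ {g g'}, Good g → Good g' → Good (g * g') := fun {g g'} hg hg' =>
    ⟨fun p q hp hq => (hg.1 p q hp hq).mul_left (hg'.1 p q hp hq), fun b' hb' => by
      rw [show g * g' * b' * (g * g')⁻¹ = g * (g' * b' * g'⁻¹) * g⁻¹ by group]
      exact hg.2 _ (hg'.2 b' hb')⟩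
  have hord : ∀ g, Good g → (∀ b', B b' → g * g * b' * (g * g)⁻¹ = b') ∨
      ∀ b', B b' → g * g * g * b' * (g * g * g)⁻¹ = b' := by
    intro g hg
    obtain ⟨s, hs, es⟩ := hBsurj _ (hg.2 b Relation.ReflTransGen.refl) x Relation.ReflTransGen.refl
    have ht : Good (x * s) := hgoodE Relation.ReflTransGen.refl hs
    have h1 := hagree ht hg es
    have h2 : ∀ b', B b' → x * s * (x * s) * b' * (x * s * (x * s))⁻¹ = g * g * b' * (g * g)⁻¹ := fun b' hb' => by
      rw [show x * s * (x * s) * b' * (x * s * (x * s))⁻¹ = x * s * (x * s * b' * (x * s)⁻¹) * (x * s)⁻¹ by group,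
        h1 b' hb', h1 _ (hg.2 b' hb')]
      group
    rcases hS.tts.2 x hx s (hmE hs).1 with e | e
    · refine Or.inl fun b' hb' => ?_
      rw [← h2 b' hb', show x * s * (x * s) = 1 by rw [← pow_two]; exact e]; simp
    · refine Or.inr fun b' hb' => ?_
      rw [show g * g * g * b' * (g * g * g)⁻¹ = g * (g * g * b' * (g * g)⁻¹) * g⁻¹ by group, ← h2 b' hb',
        ← h1 _ ((hgoodmul ht ht).2 b' hb'),
        show x * s * (x * s * (x * s) * b' * (x * s * (x * s))⁻¹) * (x * s)⁻¹ =
          (x * s) * (x * s) * (x * s) * b' * ((x * s) * (x * s) * (x * s))⁻¹ by group,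
        show x * s * (x * s) * (x * s) = 1 by rw [← pow_two, ← pow_succ]; exact e]
      simp
  -- the action
  haveI : Finite {b' // B b'} := inferInstance
  let P : Subgroup (G × Equiv.Perm {b' // B b'}) :=
    { carrier := {p | Good p.1 ∧ ∀ b' : {b' // B b'}, ((p.2 b') : G) = p.1 * b'.1 * p.1⁻¹}
      one_mem' := ⟨hgood1, fun b' => by simp⟩
      mul_mem' := fun {p q} hp hq => ⟨hgoodmul hp.1 hq.1, fun b' => by
        show ((p.2 (q.2 b')) : G) = _
        rw [hp.2, hq.2, _root_.Prod.fst_mul]; group⟩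
      inv_mem' := fun {p} hp => by
        refine ⟨⟨fun r s hr hs => (hp.1.1 r s hr hs).inv_left, fun b' hb' => ?_⟩, fun b' => ?_⟩
        · have h1 := hp.2 (p.2⁻¹ ⟨b', hb'⟩)
          rw [Equiv.Perm.inv_def, Equiv.apply_symm_apply] at h1
          show B (p.1⁻¹ * b' * p.1⁻¹⁻¹)
          rw [show b' = _ from h1]
          simpa [mul_assoc] using (p.2.symm ⟨b', hb'⟩).2
        · have h1 := hp.2 (p.2⁻¹ b')
          rw [Equiv.Perm.inv_def, Equiv.apply_symm_apply] at h1
          show ((p.2⁻¹ b') : G) = p.1⁻¹ * b'.1 * p.1⁻¹⁻¹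
          rw [h1, Equiv.Perm.inv_def]; group }
  let Γ : Subgroup (Equiv.Perm {b' // B b'}) := P.map (MonoidHom.snd G _)
  have hperm : ∀ p q, E p → E q → ∃ σ : Γ, ∀ b' : {b' // B b'}, ((σ.1 b') : G) = p * q * b'.1 * (p * q)⁻¹ := by
    intro p q hp hq
    let f : {b' // B b'} → {b' // B b'} := fun b' => ⟨p * q * b'.1 * (p * q)⁻¹, hBmap p q hp hq b'.1 b'.2⟩
    have hf : Function.Injective f := fun u v e => Subtype.ext
      (mul_left_cancel (mul_right_cancel (congrArg Subtype.val e)))
    exact ⟨⟨Equiv.ofBijective f (Finite.injective_iff_bijective.1 hf),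
      ⟨(p * q, Equiv.ofBijective f (Finite.injective_iff_bijective.1 hf)), ⟨hgoodE hp hq, fun _ => rfl⟩, rfl⟩⟩,
      fun _ => rfl⟩
  have hsmall : ∀ X : Γ, X * X = 1 ∨ X * X * X = 1 := by
    rintro ⟨σ, ⟨g, τ⟩, ⟨hg, hact⟩, rfl⟩
    rcases hord g hg with q | q
    · refine Or.inl (Subtype.ext (Equiv.ext fun b' => Subtype.ext ?_))
      show ((τ (τ b')) : G) = b'.1
      rw [hact, hact]
      show g * (g * b'.1 * g⁻¹) * g⁻¹ = b'.1
      exact (by group : _ = g * g * b'.1 * (g * g)⁻¹).trans (q b'.1 b'.2)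
    · refine Or.inr (Subtype.ext (Equiv.ext fun b' => Subtype.ext ?_))
      show ((τ (τ (τ b'))) : G) = b'.1
      rw [hact, hact, hact]
      show g * (g * (g * b'.1 * g⁻¹) * g⁻¹) * g⁻¹ = b'.1
      exact (by group : _ = g * g * g * b'.1 * (g * g * g)⁻¹).trans (q b'.1 b'.2)
  -- a near pair of the class with a common far member
  have hfarE : ∀ p, E p → ∃ q, E q ∧ ¬ Commute p q := by
    intro p hp
    by_contra hno
    push Not at hno
    have hp' := hmE hp
    have hall : ∀ q ∈ comp D x, Commute p q := fun q hq => by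
      by_contra hc
      exact hc (hno q (hp.tail ⟨hp', hq, hc⟩))
    have hclique : ∀ r ∈ D, ∀ q ∈ comp D r, Commute r q := by
      intro r hr q hq
      obtain ⟨g, hg⟩ := exists_conj h.cls hr hp'.1
      have h1 := h.conj_in (g := g) hq
      rw [hg, comp_eq hp'] at h1
      have h2 := hall _ h1
      rw [← hg, commute_conj_iff] at h2
      exact h2
    obtain ⟨u, hu, v, hv, huv, hc⟩ := h.comp_edge hx
    refine huv ((h.comp_noTwins hx).near u hu v hv fun z hz => iff_of_true ?_ ?_)
    · exact hclique u hu.1 z (by rw [comp_eq hu]; exact hz)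
    · exact hclique v hv.1 z (by rw [comp_eq hv]; exact hz)
  obtain ⟨x₁, x₂, z, hx₁, hx₂, hz, hne, hc, h1z, h2z⟩ : ∃ p q r, E p ∧ E q ∧ E r ∧ p ≠ q ∧ Commute p q ∧
      ¬ Commute p r ∧ ¬ Commute q r := by
    by_contra hno
    push Not at hno
    have h0 : E x := Relation.ReflTransGen.refl
    obtain ⟨q, hq, hxq⟩ := hfarE x h0
    have hsub : ∀ u v, E u → E v → ¬ Commute u v → nb (comp D x) u ⊆ nb (comp D x) v := by
      intro u v hu hv huv w hw
      refine ⟨hw.1, fun e => huv (e ▸ hw.2.2), ?_⟩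
      by_contra hvw
      exact hvw (hno u w v hu (hv.tail ⟨hmE hv, hw.1, hvw⟩) hv hw.2.1.symm hw.2.2 huv).symm
    exact hxq ((h.comp_noTwins hx).far x (hmE h0) q (hmE hq)
      (Set.Subset.antisymm (hsub x q h0 hq hxq) (hsub q x hq h0 fun c => hxq c.symm)) ▸ Commute.refl x)
  obtain ⟨x₁, x₂, w, z, hx₁, hx₂, hw, hz, hne, hc, h1z, h2z, h1w, h2w⟩ : ∃ p q w r, E p ∧ E q ∧ E w ∧ E r ∧
      p ≠ q ∧ Commute p q ∧ ¬ Commute p r ∧ ¬ Commute q r ∧ ¬ Commute p w ∧ Commute q w := by
    obtain ⟨w, hw, hdiff⟩ : ∃ w ∈ comp D x, ¬ (Commute x₁ w ↔ Commute x₂ w) := by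
      by_contra hno
      push Not at hno
      exact hne ((h.comp_noTwins hx).near x₁ (hmE hx₁) x₂ (hmE hx₂) hno)
    by_cases h1 : Commute x₁ w
    · have h2 : ¬ Commute x₂ w := fun q => hdiff (iff_of_true h1 q)
      exact ⟨x₂, x₁, w, z, hx₂, hx₁, hx₂.tail ⟨hmE hx₂, hw, h2⟩, hz, hne.symm, hc.symm, h2z, h1z, h2, h1⟩
    · have h2 : Commute x₂ w := by
        by_contra q
        exact hdiff (iff_of_false h1 q)
      exact ⟨x₁, x₂, w, z, hx₁, hx₂, hx₁.tail ⟨hmE hx₁, hw, h1⟩, hz, hne, hc, h1z, h2z, h1, h2⟩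
  obtain ⟨σg, hσg⟩ := hperm x₁ x₂ hx₁ hx₂
  obtain ⟨σh, hσh⟩ := hperm x₁ z hx₁ hz
  obtain ⟨σk, hσk⟩ := hperm x₁ w hx₁ hw
  have hext : ∀ {σ τ : Γ}, (∀ b' : {b' // B b'}, ((σ.1 b') : G) = τ.1 b') → σ = τ := fun q =>
    Subtype.ext (Equiv.ext fun b' => Subtype.ext (q b'))
  have hσhinv : ∀ b' : {b' // B b'}, (((σh⁻¹ : Γ).1 b') : G) = (x₁ * z)⁻¹ * b'.1 * (x₁ * z) := fun b' => by
    have := hσh ((σh⁻¹ : Γ).1 b')
    rw [Subgroup.coe_inv, Equiv.Perm.inv_def, Equiv.apply_symm_apply] at this
    rw [Subgroup.coe_inv, Equiv.Perm.inv_def, this]; group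
  set g := x₁ * x₂ with hg
  set j := (x₁ * z) * g * (x₁ * z)⁻¹ with hj
  have hσj : ∀ b' : {b' // B b'}, (((σh * σg * σh⁻¹ : Γ).1 b') : G) = j * b'.1 * j⁻¹ := fun b' => by
    simp only [Subgroup.coe_mul, Equiv.Perm.mul_apply]
    rw [hσh, hσg, hσhinv, hj]; group
  have hX1 := (hmE hx₁).1
  have hX2 := (hmE hx₂).1
  have hgg : g * g = 1 := by
    rw [hg, show x₁ * x₂ * (x₁ * x₂) = x₁ * (x₂ * x₁) * x₂ by group, ← hc.eq,
      show x₁ * (x₁ * x₂) * x₂ = (x₁ * x₁) * (x₂ * x₂) by group, hS.sq hX1, hS.sq hX2, one_mul]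
  have hjj : j * j = 1 := by
    rw [hj, show x₁ * z * g * (x₁ * z)⁻¹ * (x₁ * z * g * (x₁ * z)⁻¹) = x₁ * z * (g * g) * (x₁ * z)⁻¹ by group, hgg]
    group
  have hz1 := (hmE hz).1
  have hjform : j = z * g * z * g * z * z := by
    rw [hj, hg, mul_inv_rev, hS.inv hX1, hS.inv hz1]
    have e1 : x₁ * z * x₁ = z * x₁ * z := hS.braid hX1 hz1 h1z
    have e2 : x₂ * z * x₂ = z * x₂ * z := hS.braid hX2 hz1 h2z
    calc x₁ * z * (x₁ * x₂) * (z * x₁) = (x₁ * z * x₁) * x₂ * z * x₁ := by group
      _ = z * x₁ * (z * x₂ * z) * x₁ := by rw [e1]; group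
      _ = z * x₁ * (x₂ * z * x₂) * x₁ := by rw [e2]
      _ = z * (x₁ * x₂) * z * (x₂ * x₁) * (z * z) := by rw [hS.sq hz1, mul_one]; group
      _ = _ := by rw [← hc.eq]; group
  have hjg : j * g = g * j := by
    have hcz : Commute (g * z * g⁻¹) z := (shift_iff hS hX1 hX2 hz1 h1z h2z).2 hc
    rw [inv_eq_of_mul_eq_one_right hgg] at hcz
    rw [hjform, mul_assoc _ z z, hS.sq hz1, mul_one]
    calc z * g * z * g * g = z * g * z := by rw [mul_assoc, hgg, mul_one]
      _ = (g * g) * (z * g * z) * (g * g) := by rw [hgg, one_mul, mul_one]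
      _ = g * ((g * z * g) * z) * g * g := by group
      _ = g * (z * (g * z * g)) * g * g := by rw [hcz.eq]
      _ = g * (z * g * z) * (g * g) * g := by group
      _ = g * (z * g * z * g) := by rw [hgg, mul_one]; group
  set k := x₁ * w with hk
  have hkkk : k * k * k = 1 := by
    rcases hS.tts.2 x₁ hX1 w (hmE hw).1 with e | e
    · exfalso
      refine h1w ((hS.fix_iff hX1 w).1 ?_)
      have h4 : x₁ * w * x₁ * w = 1 := by rw [← e, pow_two]; group
      rw [eq_inv_of_mul_eq_one_left h4, hS.inv (hmE hw).1]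
    · rw [hk, ← pow_two, ← pow_succ]; exact e
  have hgkg : g * k * g = k * k := by
    calc g * k * g = x₁ * x₂ * (x₁ * w) * (x₁ * x₂) := rfl
      _ = x₁ * x₂ * (x₁ * w) * (x₂ * x₁) := by rw [hc.eq]
      _ = x₁ * ((x₂ * x₁) * w * x₂) * x₁ := by group
      _ = x₁ * ((x₁ * x₂) * w * x₂) * x₁ := by rw [hc.eq]
      _ = (x₁ * x₁) * (x₂ * w * x₂) * x₁ := by group
      _ = w * x₁ := by rw [hS.sq hX1, one_mul, (hS.fix_iff hX2 w).2 h2w]
      _ = k⁻¹ := by rw [hk, mul_inv_rev, hS.inv (hmE hw).1, hS.inv hX1]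
      _ = k * k := inv_eq_of_mul_eq_one_right (by rw [← mul_assoc, hkkk])
  have happ : ∀ {σ τ : Γ} {u v : G}, (∀ b' : {b' // B b'}, ((σ.1 b') : G) = u * b'.1 * u⁻¹) →
      (∀ b' : {b' // B b'}, ((τ.1 b') : G) = v * b'.1 * v⁻¹) →
      ∀ b' : {b' // B b'}, (((σ * τ : Γ).1 b') : G) = u * v * b'.1 * (u * v)⁻¹ := fun {σ τ u v} p q b' => by
    rw [Subgroup.coe_mul, Equiv.Perm.mul_apply, p, q]; group
  have hbB : B b := Relation.ReflTransGen.refl
  have move : ∀ {σ : Γ} {u : G}, (∀ b' : {b' // B b'}, ((σ.1 b') : G) = u * b'.1 * u⁻¹) → u * b * u⁻¹ ≠ b →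
      σ ≠ 1 := fun {σ u} hσ hu e => hu (by
    have := hσ ⟨b, hbB⟩
    rw [e] at this
    exact this.symm)
  refine small_order_false (g := σg) (j := σh * σg * σh⁻¹) (k := σk) (fun X _ => hsmall X) ?_ ?_ ?_ ?_ ?_ ?_ ?_ ?_ ?_
  · refine hext fun b' => ?_
    simp only [Subgroup.coe_mul, Equiv.Perm.mul_apply, hσg, Subgroup.coe_one, Equiv.Perm.coe_one, id_eq]
    exact (by group : _ = g * g * b'.1 * (g * g)⁻¹).trans (by rw [hgg]; simp)
  · exact move hσg (h.shift_move (hmE hx₁) (hmE hx₂) hne hb hbx)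
  · refine hext fun b' => ?_
    rw [happ hσj hσj, hjj]; simp
  · intro e
    have : σg = 1 := by
      calc σg = σh⁻¹ * (σh * σg * σh⁻¹) * σh := by group
        _ = 1 := by rw [e]; group
    exact move hσg (h.shift_move (hmE hx₁) (hmE hx₂) hne hb hbx) this
  · refine hext fun b' => ?_
    rw [happ hσj hσg, happ hσg hσj, hjg]
  · intro e
    -- then the conjugate pair acts as the pair, and the element of order three commutes with it
    have h2 : σh * σg = σg * σh := by
      have e' : σh * σg * σh⁻¹ = σg := by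
        have hs : σg * σg = 1 := hext fun b' => by
          simp only [Subgroup.coe_mul, Equiv.Perm.mul_apply, hσg, Subgroup.coe_one, Equiv.Perm.coe_one, id_eq]
          exact (by group : _ = g * g * b'.1 * (g * g)⁻¹).trans (by rw [hgg]; simp)
        rw [← inv_eq_of_mul_eq_one_right e, inv_eq_of_mul_eq_one_right hs]
      calc σh * σg = σh * σg * σh⁻¹ * σh := by group
        _ = σg * σh := by rw [e']
    have hne2 : ∀ {σ : Γ} {u v}, E u → E v → u ≠ v →
        (∀ b' : {b' // B b'}, ((σ.1 b') : G) = u * v * b'.1 * (u * v)⁻¹) → σ ≠ 1 := fun hu hv huv hσ =>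
      move hσ (h.shift_move (hmE hu) (hmE hv) huv hb hbx)
    have hh3 : σh * σh * σh = 1 := by
      rcases hS.tts.2 x₁ hX1 z hz1 with q | q
      · exfalso
        refine h1z ((hS.fix_iff hX1 z).1 ?_)
        have h4 : x₁ * z * x₁ * z = 1 := by rw [← q, pow_two]; group
        rw [eq_inv_of_mul_eq_one_left h4, hS.inv hz1]
      · refine hext fun b' => ?_
        simp only [Subgroup.coe_mul, Equiv.Perm.mul_apply, hσh, Subgroup.coe_one, Equiv.Perm.coe_one, id_eq]
        exact (by group : _ = (x₁ * z) * (x₁ * z) * (x₁ * z) * b'.1 * ((x₁ * z) * (x₁ * z) * (x₁ * z))⁻¹).trans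
          (by rw [show x₁ * z * (x₁ * z) * (x₁ * z) = 1 by rw [← pow_two, ← pow_succ]; exact q]; simp)
    have hgne := hne2 hx₁ hx₂ hne hσg
    have hhne := hne2 hx₁ hz (fun r => h1z (r ▸ Commute.refl z)) hσh
    have hs : σg * σg = 1 := hext fun b' => by
      simp only [Subgroup.coe_mul, Equiv.Perm.mul_apply, hσg, Subgroup.coe_one, Equiv.Perm.coe_one, id_eq]
      exact (by group : _ = g * g * b'.1 * (g * g)⁻¹).trans (by rw [hgg]; simp)
    have hcm : Commute σg σh := h2.symm
    rcases hsmall (σg * σh) with q | q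
    · rw [← pow_two, hcm.mul_pow, pow_two, pow_two, hs, one_mul] at q
      rw [q, one_mul] at hh3
      exact hhne hh3
    · rw [← pow_two, ← pow_succ, hcm.mul_pow, pow_succ, pow_two, hs, one_mul, pow_succ, pow_two, hh3, mul_one] at q
      exact hgne q
  · refine hext fun b' => ?_
    simp only [Subgroup.coe_mul, Equiv.Perm.mul_apply, hσk, Subgroup.coe_one, Equiv.Perm.coe_one, id_eq]
    exact (by group : _ = k * k * k * b'.1 * (k * k * k)⁻¹).trans (by rw [hkkk]; simp)
  · exact move hσk (h.shift_move (hmE hx₁) (hmE hw) (fun r => h1w (r ▸ Commute.refl w)) hb hbx)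
  · refine hext fun b' => ?_
    simp only [Subgroup.coe_mul, Equiv.Perm.mul_apply, hσk, hσg]
    exact (by group : _ = g * k * g * b'.1 * (g * k * g)⁻¹).trans (by rw [hgkg]; group)

theorem comp_oneClass {a : G} (_ha : a ∈ D) : OneClass (comp D a) := by
  have hC := comp_closed h.closed a
  intro x hx y hy
  have key : ∀ q, FLink (comp D a) x q → ∃ g ∈ Subgroup.closure (comp D a), g * x * g⁻¹ = q := by
    intro q hq
    induction hq with
    | refl => exact ⟨1, Subgroup.one_mem _, by simp⟩
    | @tail p r _ hpr ih =>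
      obtain ⟨g, hg, rfl⟩ := ih
      obtain ⟨hp, hr, hc⟩ := hpr
      set p := g * x * g⁻¹ with hpdef
      refine ⟨p * r * g, Subgroup.mul_mem _ (Subgroup.mul_mem _ (Subgroup.subset_closure hp) (Subgroup.subset_closure hr)) hg, ?_⟩
      rw [show p * r * g * x * (p * r * g)⁻¹ = p * r * (g * x * g⁻¹) * r⁻¹ * p⁻¹ by group, ← hpdef, hC.inv hr, hC.inv hp]
      calc p * r * p * r * p = (p * r * p) * r * p := by group
        _ = (r * p * r) * r * p := by rw [hC.braid hp hr hc]
        _ = r := by rw [hC.cancel_right hr, hC.cancel_right hp]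
  exact key y (h.comp_flink hx hy)

end Disc

end CfsgLib.Fischer
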