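import Cfsg.Agent.Fischer.Derived
import Cfsg.Agent.Fischer.CompShape
import Cfsg.Agent.Fischer.Disc.OneClass

/-!
A class with disconnected commuting graph: all components have the same derived group.
-/

set_option autoImplicit false
set_option linter.unusedSectionVars false
set_option linter.style.haveILetI false

open scoped commutatorElement

namespace CfsgLib.Fischer

open CfsgLib.ThreeT CfsgLib.ThreeT.Prod

universe u

variable {G : Type u} [Group G] [Finite G] {D : Set G}

/-- The derived group of a component. -/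
abbrev cder (D : Set G) (a : G) : Subgroup G := ⁅Subgroup.closure (comp D a), Subgroup.closure (comp D a)⁆

namespace Disc

variable (h : Disc D)
include h

theorem comp_fi {a : G} (ha : a ∈ D) : Fi (qimg (comp D a)) :=
  fi_quot (comp_closed h.closed a) (h.comp_noTwins ha) (comp_conn a) (h.comp_oneClass ha) (h.comp_edge ha)

theorem comp_conj {a g b : G} (ha : a ∈ D) (hb : b ∈ comp D a) : comp D (g * b * g⁻¹) = comp D (g * a * g⁻¹) := by
  have := h.mem ha g
  exact comp_eq (h.conj_in hb)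

/-- The elements keeping every component. -/
def keep : Subgroup G where
  carrier := {g | ∀ b ∈ D, g * b * g⁻¹ ∈ comp D b}
  one_mem' := fun b hb => by simpa using mem_comp_self hb
  mul_mem' := fun {p q} hp hq b hb => by
    rw [show p * q * b * (p * q)⁻¹ = p * (q * b * q⁻¹) * p⁻¹ by group, ← comp_eq (hq b hb)]
    exact hp _ (h.mem hb q)
  inv_mem' := fun {p} hp b hb => by
    have h1 := hp _ (h.mem hb p⁻¹)
    rw [show p * (p⁻¹ * b * p⁻¹⁻¹) * p⁻¹ = b by group] at h1
    rw [← comp_eq (mem_comp_self hb), comp_eq h1]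
    exact mem_comp_self (h.mem hb p⁻¹)

theorem mem_keep {g : G} (hg : g ∈ h.keep) {b : G} (hb : b ∈ D) : g * b * g⁻¹ ∈ comp D b := hg b hb

theorem pair_keep {a x y : G} (hx : x ∈ comp D a) (hy : y ∈ comp D a) : x * y ∈ h.keep :=
  fun _ hb => h.shift_comp hx hy hb

theorem keep_normal : (h.keep).Normal := by
  refine ⟨fun w hw g b hb => ?_⟩
  have h1 := h.conj_in (g := g) (h.mem_keep hw (h.mem hb g⁻¹))
  rw [show g * (g⁻¹ * b * g⁻¹⁻¹) * g⁻¹ = b by group] at h1
  rwa [show g * w * g⁻¹ * b * (g * w * g⁻¹)⁻¹ = g * (w * (g⁻¹ * b * g⁻¹⁻¹) * w⁻¹) * g⁻¹ by group]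

theorem cder_le_keep {a : G} (ha : a ∈ D) : cder D a ≤ h.keep := by
  haveI := h.keep_normal
  set q := QuotientGroup.mk' h.keep
  rw [show h.keep = q.ker from (QuotientGroup.ker_mk' _).symm, ← Subgroup.map_eq_bot_iff, Subgroup.map_commutator,
    Subgroup.commutator_eq_bot_iff_le_centralizer]
  have hS := h.closed
  have hle : (Subgroup.closure (comp D a)).map q ≤ Subgroup.zpowers (q a) := by
    rw [MonoidHom.map_closure, Subgroup.closure_le]
    rintro _ ⟨x, hx, rfl⟩
    have e : q x = q a := by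
      have h1 : q (x * a) = 1 := (QuotientGroup.eq_one_iff (x * a)).2 (h.pair_keep hx (mem_comp_self ha))
      rw [map_mul, mul_eq_one_iff_eq_inv, ← map_inv, hS.inv ha] at h1
      exact h1
    rw [e]
    exact Subgroup.mem_zpowers _
  intro u hu
  refine Subgroup.mem_centralizer_iff.2 fun v hv => ?_
  obtain ⟨k, rfl⟩ := Subgroup.mem_zpowers_iff.1 (hle hu)
  obtain ⟨l, rfl⟩ := Subgroup.mem_zpowers_iff.1 (hle hv)
  exact ((Commute.refl _).zpow_zpow l k).eq

theorem cder_conj (g : G) {a n : G} (ha : a ∈ D) (hn : n ∈ cder D a) : g * n * g⁻¹ ∈ cder D (g * a * g⁻¹) := by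
  have hle : (Subgroup.closure (comp D a)).map (MulAut.conj g).toMonoidHom ≤
      Subgroup.closure (comp D (g * a * g⁻¹)) := by
    rw [MonoidHom.map_closure, Subgroup.closure_le]
    rintro _ ⟨y, hy, rfl⟩
    exact Subgroup.subset_closure (h.conj_in hy)
  have h1 : (MulAut.conj g).toMonoidHom n ∈ (cder D a).map (MulAut.conj g).toMonoidHom :=
    Subgroup.mem_map_of_mem _ hn
  rw [Subgroup.map_commutator] at h1
  exact Subgroup.commutator_mono hle hle h1

theorem cder_keep {w a n : G} (hw : w ∈ h.keep) (ha : a ∈ D) (hn : n ∈ cder D a) : w * n * w⁻¹ ∈ cder D a := by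
  have := h.cder_conj w ha hn
  rwa [cder, comp_eq (h.mem_keep hw ha)] at this

theorem cder_perfect {a : G} (ha : a ∈ D) : ⁅cder D a, cder D a⁆ = cder D a :=
  derived_perfect (comp_closed h.closed a) (h.comp_oneClass ha) (h.comp_fi ha) (mem_comp_self ha)

theorem commute_fix {m b : G} (hb : b ∈ D) (hm : m ∈ h.keep) (hc : ∀ n ∈ cder D b, Commute m n) : Commute m b :=
  commute_of_derived (comp_closed h.closed b) (h.comp_noTwins hb) (h.comp_fi hb) hc
    (fun y hy => by rw [← comp_eq hy]; exact h.mem_keep hm hy.1) (mem_comp_self hb)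

theorem cder_le {a b : G} (ha : a ∈ D) (hb : b ∈ D) : cder D a ≤ cder D b := by
  classical
  have hS := h.closed
  by_cases e : comp D a = comp D b
  · rw [cder, e]
  set I := cder D a ⊓ cder D b
  set K := Subgroup.closure (comp D a)
  have hMK : cder D a ≤ K := Subgroup.commutator_le_self K
  set q := QuotientGroup.mk' (Subgroup.center ↥K)
  have hnorm : ∀ m ∈ cder D a, ∀ t ∈ I, m * t * m⁻¹ ∈ I := fun m hm t ht =>
    ⟨(cder D a).mul_mem ((cder D a).mul_mem hm ht.1) ((cder D a).inv_mem hm),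
      h.cder_keep (h.cder_le_keep ha hm) hb ht.2⟩
  have hK' : ∀ k : ↥K, k ∈ commutator ↥K ↔ (k : G) ∈ cder D a := by
    intro k
    rw [← Subgroup.mem_map_iff_mem (f := K.subtype) K.subtype_injective, Subgroup.map_subtype_commutator]
    rfl
  haveI hsimple := (h.comp_fi ha).simple
  set J : Subgroup ↥(commutator (QG (comp D a))) := ((I.subgroupOf K).map q).subgroupOf (commutator (QG (comp D a)))
  have hJn : J.Normal := by
    refine ⟨fun x hx g => ?_⟩
    obtain ⟨m, hm, em⟩ := commutator_map_mk.ge g.2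
    obtain ⟨t, ht, et⟩ := Subgroup.mem_subgroupOf.1 hx
    refine Subgroup.mem_subgroupOf.2 ⟨m * t * m⁻¹, hnorm _ ((hK' m).1 hm) _ ht, ?_⟩
    rw [map_mul, map_mul, map_inv]
    show q m * q t * (q m)⁻¹ = ((g * x * g⁻¹ : ↥(commutator (QG (comp D a)))) : QG (comp D a))
    rw [show q m = (g : QG (comp D a)) from em, show q t = (x : QG (comp D a)) from et]
    rfl
  rcases hJn.eq_bot_or_eq_top with hbj | ht
  · exfalso
    have hIc : ∀ t ∈ I, ∀ m ∈ cder D a, Commute t m := by
      intro t ht m hm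
      let t' : ↥K := ⟨t, hMK ht.1⟩
      have ht' : q t' ∈ commutator (QG (comp D a)) :=
        commutator_map_mk.le (Subgroup.mem_map_of_mem q ((hK' t').2 ht.1))
      have h1 : (⟨q t', ht'⟩ : ↥(commutator (QG (comp D a)))) ∈ J :=
        Subgroup.mem_subgroupOf.2 (Subgroup.mem_map_of_mem q (Subgroup.mem_subgroupOf.2 ht))
      rw [hbj, Subgroup.mem_bot] at h1
      have h2 : t' ∈ Subgroup.center ↥K := (QuotientGroup.eq_one_iff t').1 (congrArg Subtype.val h1)
      exact (congrArg Subtype.val (Subgroup.mem_center_iff.1 h2 ⟨m, hMK hm⟩)).symm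
    have hbot : ⁅⁅cder D a, cder D b⁆, cder D a⁆ = ⊥ := by
      rw [Subgroup.commutator_eq_bot_iff_le_centralizer]
      intro t ht
      have htI : t ∈ I := by
        have hle' : ⁅cder D a, cder D b⁆ ≤ I := by
          rw [Subgroup.commutator_le]
          intro p hp r hr
          have h1 := h.cder_keep (h.cder_le_keep hb hr) ha ((cder D a).inv_mem hp)
          have h2 := h.cder_keep (h.cder_le_keep ha hp) hb hr
          refine ⟨?_, ?_⟩
          · rw [commutatorElement_def, show p * r * p⁻¹ * r⁻¹ = p * (r * p⁻¹ * r⁻¹) by group]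
            exact (cder D a).mul_mem hp h1
          · rw [commutatorElement_def]
            exact (cder D b).mul_mem h2 ((cder D b).inv_mem hr)
        exact hle' ht
      exact Subgroup.mem_centralizer_iff.2 fun m hm => (hIc t htI m hm).eq.symm
    have h0 : ⁅⁅cder D a, cder D a⁆, cder D b⁆ = ⊥ :=
      Subgroup.commutator_commutator_eq_bot_of_rotate hbot (by rw [Subgroup.commutator_comm (cder D b)]; exact hbot)
    rw [h.cder_perfect ha, Subgroup.commutator_eq_bot_iff_le_centralizer] at h0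
    obtain ⟨d, hd, -⟩ := (h.comp_fi ha).width
    obtain ⟨c, hc, hdc⟩ := (h.comp_fi ha).exists_far hd
    obtain ⟨a₁, ha₁, rfl⟩ := (qmap_bijOn (comp_closed hS a) (h.comp_noTwins ha)).surjOn hd
    obtain ⟨a₂, ha₂, rfl⟩ := (qmap_bijOn (comp_closed hS a) (h.comp_noTwins ha)).surjOn hc
    have hnc : ¬ Commute a₁ a₂ := fun q' => hdc ((qmap_commute (comp_closed hS a) (h.comp_noTwins ha) ha₁ ha₂).2 q')
    have hmM : ⁅a₁, a₂⁆ ∈ cder D a :=
      Subgroup.commutator_mem_commutator (Subgroup.subset_closure ha₁) (Subgroup.subset_closure ha₂)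
    have hm : ⁅a₁, a₂⁆ = a₂ * a₁ := by
      rw [commutatorElement_def, hS.inv ha₁.1, hS.inv ha₂.1, hS.braid ha₁.1 ha₂.1 hnc, hS.cancel_right ha₂.1]
    have hcom : Commute ⁅a₁, a₂⁆ b :=
      h.commute_fix hb (h.cder_le_keep ha hmM) fun n hn => (Subgroup.mem_centralizer_iff.1 (h0 hmM) n hn).symm
    rw [hm] at hcom
    exact h.shift_move ha₂ ha₁ (fun q' => hnc (q' ▸ Commute.refl a₂)) hb (fun q' => e (comp_eq q').symm)
      (by rw [hcom.eq, mul_inv_cancel_right])
  · have hlift : ∀ m : ↥K, (m : G) ∈ cder D a → ∃ t : ↥K, (t : G) ∈ I ∧ m⁻¹ * t ∈ Subgroup.center ↥K := by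
      intro m hm
      have hm' : q m ∈ commutator (QG (comp D a)) :=
        commutator_map_mk.le (Subgroup.mem_map_of_mem q ((hK' m).2 hm))
      obtain ⟨t, ht', et⟩ := Subgroup.mem_subgroupOf.1 (show (⟨q m, hm'⟩ : ↥(commutator (QG (comp D a)))) ∈ J from
        ht ▸ Subgroup.mem_top _)
      exact ⟨t, ht', QuotientGroup.eq.1 et.symm⟩
    rw [← h.cder_perfect ha, Subgroup.commutator_le]
    intro p hp r hr
    obtain ⟨t, ht, hz⟩ := hlift ⟨p, hMK hp⟩ hp
    obtain ⟨t', ht', hz'⟩ := hlift ⟨r, hMK hr⟩ hr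
    set z := (⟨p, hMK hp⟩ : ↥K)⁻¹ * t with hzd
    set z' := (⟨r, hMK hr⟩ : ↥K)⁻¹ * t' with hzd'
    have e1 : ⁅t, t'⁆ = ⁅(⟨p, hMK hp⟩ : ↥K), (⟨r, hMK hr⟩ : ↥K)⁆ := by
      rw [show t = (⟨p, hMK hp⟩ : ↥K) * z by rw [hzd]; group,
        show t' = (⟨r, hMK hr⟩ : ↥K) * z' by rw [hzd']; group]
      set P : ↥K := ⟨p, hMK hp⟩
      set R : ↥K := ⟨r, hMK hr⟩
      have hc : ∀ k, z * k = k * z := fun k => (Subgroup.mem_center_iff.1 hz k).symm
      have hc' : ∀ k, z' * k = k * z' := fun k => (Subgroup.mem_center_iff.1 hz' k).symm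
      rw [commutatorElement_def, commutatorElement_def]
      calc P * z * (R * z') * (P * z)⁻¹ * (R * z')⁻¹ = P * (z * (R * z')) * z⁻¹ * P⁻¹ * z'⁻¹ * R⁻¹ := by group
        _ = P * R * z' * (z * z⁻¹) * P⁻¹ * z'⁻¹ * R⁻¹ := by rw [hc]; group
        _ = P * R * (z' * P⁻¹) * z'⁻¹ * R⁻¹ := by group
        _ = P * R * P⁻¹ * R⁻¹ := by rw [hc']; group
    have e2 : ((⁅t, t'⁆ : ↥K) : G) = ⁅(t : G), (t' : G)⁆ := map_commutatorElement K.subtype t t'
    rw [e1] at e2
    rw [show ⁅p, r⁆ = ((⁅(⟨p, hMK hp⟩ : ↥K), (⟨r, hMK hr⟩ : ↥K)⁆ : ↥K) : G) from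
      (map_commutatorElement K.subtype ⟨p, hMK hp⟩ ⟨r, hMK hr⟩).symm, e2]
    exact Subgroup.commutator_le_self _ (Subgroup.commutator_mem_commutator ht.2 ht'.2)

theorem cder_eq {a b : G} (ha : a ∈ D) (hb : b ∈ D) : cder D a = cder D b :=
  le_antisymm (h.cder_le ha hb) (h.cder_le hb ha)

theorem cder_normal {a : G} (ha : a ∈ D) : (cder D a).Normal :=
  ⟨fun _ hn g => h.cder_eq ha (h.mem ha g) ▸ h.cder_conj g ha hn⟩

theorem pair_cder {a x y : G} (ha : a ∈ D) (hx : x ∈ comp D a) (hy : y ∈ comp D a) : x * y ∈ cder D a := by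
  obtain ⟨k, hk, rfl⟩ := exists_derived (h.comp_oneClass ha) hy hx
  rwa [h.closed.cancel_right hy.1]

/-- The quotient by the common derived group is solvable. -/
theorem quot_solvable {a : G} (ha : a ∈ D) [(cder D a).Normal] : Group.IsSolvable (G ⧸ cder D a) := by
  classical
  have hS := h.closed
  set N := cder D a
  set q := QuotientGroup.mk' N
  have hW : ∀ {b c}, b ∈ D → c ∈ D → b * c ∈ h.keep → c ∈ comp D b := by
    intro b c hb hc hbc
    by_contra hne
    have h1 := h.mem_keep hbc hc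
    rw [mul_inv_rev, hS.inv hc, hS.inv hb, show b * c * c * (c * b) = b * (c * c) * c * b by group, hS.sq hc,
      mul_one] at h1
    have hne' : comp D b ≠ comp D c := fun e => hne (e ▸ mem_comp_self hc)
    exact (comp_moves hS hb hc hne').1 (comp_eq h1)
  have heq : ∀ {b c}, b ∈ D → c ∈ D → (q b = q c ↔ c ∈ comp D b) := by
    intro b c hb hc
    refine ⟨fun e => hW hb hc ?_, fun hm => ?_⟩
    · have h1 : b * c ∈ N := by
        rw [← QuotientGroup.eq_one_iff, ← QuotientGroup.mk'_apply, map_mul, e, ← map_mul, hS.sq hc, map_one]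
      exact h.cder_le_keep ha h1
    · have h1 : b * c ∈ N := (h.cder_eq ha hb).ge (h.pair_cder hb (mem_comp_self hb) hm)
      have h2 : q (b * c) = 1 := (QuotientGroup.eq_one_iff _).2 h1
      rw [map_mul, mul_eq_one_iff_eq_inv, ← map_inv, hS.inv hc] at h2
      exact h2
  have hgen : Subgroup.closure (q '' D) = ⊤ := by
    rw [← MonoidHom.map_closure, h.gen, Subgroup.map_top_of_surjective _ (QuotientGroup.mk'_surjective _)]
  obtain ⟨b, hb, hba⟩ := h.exists_other a
  have hne1 : ∀ x ∈ D, q x ≠ 1 := by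
    intro x hx e
    have h1 : x ∈ h.keep := h.cder_le_keep ha ((QuotientGroup.eq_one_iff x).1 e)
    obtain ⟨y, hy, hyx⟩ := h.exists_other x
    have h2 := h.mem_keep h1 hy
    rw [hS.inv hx] at h2
    exact (comp_moves hS hx hy fun e => hyx (e ▸ mem_comp_self hy)).1 (comp_eq h2)
  have hset : Cfsg.IsThreeTranspositionSet (q '' D) := by
    refine ⟨?_, ?_⟩
    · rintro _ ⟨x, hx, rfl⟩
      refine orderOf_eq_prime ?_ (hne1 x hx)
      rw [← map_pow, pow_two, hS.sq hx, map_one]
    · rintro _ ⟨x, hx, rfl⟩ _ ⟨y, hy, rfl⟩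
      rw [← map_mul, ← map_pow, ← map_pow]
      exact (h.cls.1.2 x hx y hy).imp (fun e => by rw [e, map_one]) fun e => by rw [e, map_one]
  have hclass : Cfsg.IsThreeTranspositionClass (q '' D) := by
    refine ⟨hset, ⟨q a, ⟨a, ha, rfl⟩, Set.ext fun e => ⟨?_, fun he => ?_⟩⟩, hgen⟩
    · rintro ⟨x, hx, rfl⟩
      obtain ⟨g, rfl⟩ := exists_conj h.cls ha hx
      exact isConj_iff.2 ⟨q g, by simp⟩
    · obtain ⟨c, rfl⟩ := isConj_iff.1 (show IsConj (q a) e from he)
      obtain ⟨g, rfl⟩ := QuotientGroup.mk'_surjective N c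
      exact ⟨g * a * g⁻¹, h.mem ha g, by simp [q]⟩
  refine isSolvable_of_no_commuting hclass ?_
  rintro ⟨_, x, hx, rfl⟩ ⟨_, y, hy, rfl⟩ hne hc
  refine hne (Subtype.ext ((heq hx hy).2 (hW hx hy ?_)))
  have h2 : (x * y) ^ 2 ∈ h.keep := h.cder_le_keep ha ((QuotientGroup.eq_one_iff _).1 (show q ((x * y) ^ 2) = 1 by
    rw [map_pow, map_mul, hc.mul_pow, ← map_pow, ← map_pow, pow_two, pow_two, hS.sq hx, hS.sq hy, map_one, one_mul]))
  rcases h.cls.1.2 x hx y hy with e | e
  · have hxy : Commute x y := commute_of_sq (h.cls.1.1 x hx) (h.cls.1.1 y hy) e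
    exact h.pair_keep (mem_comp_self hx) (comp_step (mem_comp_self hx) hy hxy)
  · rw [show x * y = ((x * y) ^ 2)⁻¹ from eq_inv_of_mul_eq_one_left (by rw [← pow_succ']; exact e)]
    exact inv_mem h2

/-- Nothing centralises the common derived group. -/
theorem cder_centralizer {a z : G} (ha : a ∈ D) (hz : ∀ n ∈ cder D a, Commute z n) : z = 1 := by
  haveI := h.cder_normal ha
  haveI := h.quot_solvable ha
  set N := cder D a
  set C := Subgroup.centralizer (N : Set G)
  have hCN : C ⊓ N = ⊥ := h.sol _ inferInstance (Group.isSolvable_of_comm fun p q => Subtype.ext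
    (Subgroup.mem_centralizer_iff.1 p.2.1 q q.2.2).symm)
  have hC : C = ⊥ := by
    refine h.sol C inferInstance ?_
    let f : C →* G ⧸ N := (QuotientGroup.mk' N).comp C.subtype
    have hf : Function.Injective f := by
      rw [injective_iff_map_eq_one]
      intro c hc
      have h1 : (c : G) ∈ C ⊓ N := ⟨c.2, (QuotientGroup.eq_one_iff (c : G)).1 hc⟩
      rw [hCN, Subgroup.mem_bot] at h1
      exact Subtype.ext h1
    exact Group.isSolvable_of_isSolvable_injective hf
  have hm : z ∈ C := Subgroup.mem_centralizer_iff.2 fun n hn => (hz n hn).eq.symm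
  rw [hC] at hm
  exact Subgroup.mem_bot.1 hm

/-- The common derived group is the derived group of the component modulo its centre. -/
theorem cder_equiv {a : G} (ha : a ∈ D) : Nonempty (↥(cder D a) ≃* ↥(commutator (QG (comp D a)))) := by
  set K := Subgroup.closure (comp D a)
  set q := QuotientGroup.mk' (Subgroup.center ↥K)
  have hK' : (commutator ↥K).map K.subtype = cder D a := Subgroup.map_subtype_commutator K
  let f : ↥(commutator ↥K) →* ↥(commutator (QG (comp D a))) :=
    (q.comp (commutator ↥K).subtype).codRestrict _ fun k => commutator_map_mk.le (Subgroup.mem_map_of_mem q k.2)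
  have hf : Function.Bijective f := by
    refine ⟨(injective_iff_map_eq_one _).2 fun k hk => ?_, fun x => ?_⟩
    · have hz : (k : ↥K) ∈ Subgroup.center ↥K :=
        (QuotientGroup.eq_one_iff (k : ↥K)).1 (congrArg Subtype.val hk)
      refine Subtype.ext (Subtype.ext (h.cder_centralizer ha fun n hn => ?_))
      exact (congrArg Subtype.val (Subgroup.mem_center_iff.1 hz
        ⟨n, Subgroup.commutator_le_self K hn⟩)).symm
    · obtain ⟨k, hk, ek⟩ := commutator_map_mk.ge x.2
      exact ⟨⟨k, hk⟩, Subtype.ext ek⟩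
  exact ⟨((MulEquiv.subgroupCongr hK').symm.trans
    (Subgroup.equivMapOfInjective _ _ K.subtype_injective).symm).trans (MulEquiv.ofBijective f hf)⟩

end Disc

end CfsgLib.Fischer
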