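import Cfsg.Agent.Fischer.Disc.Cases
import Cfsg.Agent.Spor3T.M24Far

/-!
Three components, and the shape of the group.
-/

set_option autoImplicit false
set_option linter.unusedSectionVars false
set_option linter.style.haveILetI false

namespace CfsgLib.Fischer

open CfsgLib.ThreeT CfsgLib.ThreeT.Prod

universe u

variable {G : Type u} [Group G] [Finite G] {D : Set G}

namespace Disc

variable (h : Disc D)
include h

theorem closure_keep {b T : G} (hb : b ∈ D) (hT : T ∈ Subgroup.closure (comp D b)) :
    T ∈ h.keep ∨ T * b ∈ h.keep := by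
  haveI := h.keep_normal
  set q := QuotientGroup.mk' h.keep with hq
  have hb2 : q b * q b = 1 := by rw [← map_mul, h.closed.sq hb, map_one]
  have hone : ∀ g, q g = 1 ↔ g ∈ h.keep := fun g => QuotientGroup.eq_one_iff g
  suffices hs : q T = 1 ∨ q T = q b by
    refine hs.imp (hone T).1 fun e => (hone _).1 ?_
    rw [map_mul, e, hb2]
  induction hT using Subgroup.closure_induction with
  | mem x hx =>
    refine Or.inr ?_
    have h1 := (hone _).2 (h.pair_keep hx (mem_comp_self hb))
    rw [map_mul, mul_eq_one_iff_eq_inv, inv_eq_of_mul_eq_one_right hb2] at h1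
    exact h1
  | one => exact Or.inl (map_one q)
  | mul x y _ _ hx hy =>
    rcases hx with e | e <;> rcases hy with e' | e' <;> simp only [map_mul, e, e', one_mul, mul_one, hb2]
    all_goals simp
  | inv x _ hx =>
    rcases hx with e | e <;> simp only [map_inv, e, inv_one, inv_eq_of_mul_eq_one_right hb2] <;> simp

/-- Only three components. -/
theorem three_comps {b c d : G} (hb : b ∈ D) (hc : c ∈ D) (hcb : c ∉ comp D b) (hd : d ∈ D) (hdb : d ∉ comp D b) :
    d ∈ comp D c ∨ d ∈ comp D (b * c * b) := by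
  obtain ⟨u, hu, v, hv, huv, u', hu', v', hv', huv', T, hT, e⟩ := (h.kind hb).1 c hc d hd hcb hdb
  have h1 : comp D d = comp D (T * c * T⁻¹) := h.comp_of_pair (h.conj_in hu) (h.conj_in hv)
    (fun q => huv (mul_left_cancel (mul_right_cancel q))) hu' huv' (by rw [← e]; group)
  have hd' : d ∈ comp D (T * c * T⁻¹) := h1 ▸ mem_comp_self hd
  rcases h.closure_keep hb hT with q | q
  · left
    rwa [comp_eq (h.mem_keep q hc)] at hd'
  · right
    have h2 := h.mem_keep q (h.closed.conj b hb c hc)
    rw [show T * b * (b * c * b) * (T * b)⁻¹ = T * (b * b) * c * (b * b⁻¹) * T⁻¹ by group, h.closed.sq hb,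
      mul_inv_cancel, mul_one, mul_one] at h2
    rwa [comp_eq h2] at hd'

/-- The quotient is the symmetric group on the three components. -/
theorem quot_three {b : G} (hb : b ∈ D) [(cder D b).Normal] :
    Nonempty (G ⧸ cder D b ≃* Equiv.Perm (Fin 3)) := by
  classical
  have hS := h.closed
  obtain ⟨c, hc, hcb⟩ := h.exists_other b
  set e := b * c * b with he
  have heD : e ∈ D := hS.conj b hb c hc
  have hbc : ¬ Commute b c := fun q => hcb (comp_step (mem_comp_self hb) hc q)
  have hne : comp D b ≠ comp D c := fun q => hcb (q ▸ mem_comp_self hc)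
  have hec : e ∉ comp D c := fun q => (comp_moves hS hb hc hne).1 (comp_eq q)
  have heb : e ∉ comp D b := fun q => hcb (by
    have h1 := (comp_closed hS b).conj b (mem_comp_self hb) e q
    rwa [he, hS.conj_conj hb] at h1)
  let P : Fin 3 → G := ![b, c, e]
  have hPD : ∀ i, P i ∈ D := fun i => by fin_cases i <;> assumption
  have hcov : ∀ d ∈ D, ∃ i, d ∈ comp D (P i) := by
    intro d hd
    by_cases q : d ∈ comp D b
    · exact ⟨0, q⟩
    rcases h.three_comps hb hc hcb hd q with r | r
    exacts [⟨1, r⟩, ⟨2, r⟩]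
  have hdiff : ∀ i j, i ≠ j → P j ∉ comp D (P i) := by
    have sym : ∀ {p r}, p ∈ D → r ∉ comp D p → r ∈ D → p ∉ comp D r := fun hp hr hr' q =>
      hr ((comp_eq q).ge (mem_comp_self hr'))
    intro i j hij
    fin_cases i <;> fin_cases j <;> simp [P] at hij ⊢
    exacts [hcb, heb, sym hb hcb hc, hec, sym hb heb heD, sym hc hec heD]
  have huniq : ∀ {d i j}, d ∈ comp D (P i) → d ∈ comp D (P j) → i = j := fun {d i j} hi hj =>
    by_contra fun q => hdiff i j q (by rw [← comp_eq hi, comp_eq hj]; exact mem_comp_self (hPD j))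
  choose idx hidx using fun (g : G) (i : Fin 3) => hcov _ (h.mem (hPD i) g)
  have hmul : ∀ g k i, idx (g * k) i = idx g (idx k i) := by
    intro g k i
    refine huniq (hidx (g * k) i) ?_
    have h1 := h.conj_in (g := g) (hidx k i)
    rw [comp_eq (hidx g (idx k i))] at h1
    rwa [show g * k * P i * (g * k)⁻¹ = g * (k * P i * k⁻¹) * g⁻¹ by group]
  have hone : ∀ i, idx 1 i = i := fun i => huniq (hidx 1 i) (by simpa using mem_comp_self (hPD i))
  let π : G →* Equiv.Perm (Fin 3) :=
    { toFun := fun g => ⟨idx g, idx g⁻¹, fun i => by rw [← hmul, inv_mul_cancel, hone],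
        fun i => by rw [← hmul, mul_inv_cancel, hone]⟩
      map_one' := Equiv.ext fun i => hone i
      map_mul' := fun g k => Equiv.ext fun i => hmul g k i }
  have hker : cder D b ≤ π.ker := fun n hn => Equiv.ext fun i =>
    huniq (hidx n i) (h.mem_keep (h.cder_le_keep hb hn) (hPD i))
  have hval : ∀ (x : G) (σ : Equiv.Perm (Fin 3)), (∀ i, x * P i * x⁻¹ = P (σ i)) → π x = σ := fun x σ hx =>
    Equiv.ext fun i => huniq (hidx x i) (by rw [hx]; exact mem_comp_self (hPD _))
  have hπb : π b = tau3 0 := hval b _ fun i => by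
    rw [hS.inv hb]
    fin_cases i
    · show b * b * b = b; rw [hS.sq hb, one_mul]
    · show b * c * b = P (tau3 0 1); rw [tau3_two]; rfl
    · show b * e * b = P (tau3 0 2); rw [show tau3 0 2 = 1 by decide, he, hS.conj_conj hb]; rfl
  have hπc : π c = tau3 1 := hval c _ fun i => by
    rw [hS.inv hc]
    fin_cases i
    · show c * b * c = P (tau3 1 0); rw [show tau3 1 0 = 2 by decide, ← hS.braid hb hc hbc]; rfl
    · show c * c * c = c; rw [hS.sq hc, one_mul]
    · show c * e * c = P (tau3 1 2)
      rw [show tau3 1 2 = 0 by decide, he, hS.braid hb hc hbc, hS.conj_conj hc]; rfl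
  let f : G ⧸ cder D b →* Equiv.Perm (Fin 3) := QuotientGroup.lift (cder D b) π hker
  have hsurj : Function.Surjective f := by
    intro σ
    have m0 : tau3 0 ∈ π.range := ⟨b, hπb⟩
    have m1 : tau3 1 ∈ π.range := ⟨c, hπc⟩
    obtain ⟨g, hg⟩ : σ ∈ π.range := by
      rcases tau3_swap σ with rfl | rfl | rfl | rfl | rfl | rfl
      exacts [one_mem _, m0, m1, mul_mem m0 m1, mul_mem m1 m0, mul_mem (mul_mem m0 m1) m0]
    exact ⟨QuotientGroup.mk g, hg⟩
  -- six cosets
  set q := QuotientGroup.mk' (cder D b)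
  have hqeq : ∀ x ∈ D, ∀ i, x ∈ comp D (P i) → q x = q (P i) := by
    intro x hx i hi
    have h1 : q (x * P i) = 1 := (QuotientGroup.eq_one_iff _).2
      ((h.cder_eq hb (hPD i)).ge (h.pair_cder (hPD i) hi (mem_comp_self (hPD i))))
    rw [map_mul, mul_eq_one_iff_eq_inv, ← map_inv, hS.inv (hPD i)] at h1
    exact h1
  set a' := q b
  set c' := q c
  have ha2 : a' * a' = 1 := by rw [← map_mul, hS.sq hb, map_one]
  have hc2 : c' * c' = 1 := by rw [← map_mul, hS.sq hc, map_one]
  have hbr : c' * a' * c' = a' * c' * a' := by simp only [a', c', ← map_mul]; rw [hS.braid hb hc hbc]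
  set W : List (G ⧸ cder D b) := [1, a', c', a' * c', c' * a', a' * c' * a']
  have hstep : ∀ z ∈ W, a' * z ∈ W ∧ c' * z ∈ W := by
    intro z hz
    simp only [W, List.mem_cons, List.not_mem_nil, or_false] at hz ⊢
    rcases hz with rfl | rfl | rfl | rfl | rfl | rfl
    · simp
    · exact ⟨Or.inl ha2, by simp⟩
    · exact ⟨by simp, Or.inl hc2⟩
    · refine ⟨Or.inr (Or.inr (Or.inl (by rw [← mul_assoc, ha2, one_mul]))), ?_⟩
      exact Or.inr (Or.inr (Or.inr (Or.inr (Or.inr (by rw [← mul_assoc, hbr])))))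
    · refine ⟨Or.inr (Or.inr (Or.inr (Or.inr (Or.inr (by rw [← mul_assoc]))))), ?_⟩
      exact Or.inr (Or.inl (by rw [← mul_assoc, hc2, one_mul]))
    · refine ⟨Or.inr (Or.inr (Or.inr (Or.inr (Or.inl (by
        rw [← mul_assoc, ← mul_assoc, ha2, one_mul]))))), ?_⟩
      refine Or.inr (Or.inr (Or.inr (Or.inl ?_)))
      rw [← hbr, ← mul_assoc, ← mul_assoc, hc2, one_mul]
  have hW : ∀ g : G, q g ∈ W := by
    intro g
    have hg : g ∈ Subgroup.closure D := h.gen ▸ Subgroup.mem_top g
    have gen_step : ∀ x ∈ D, ∀ z ∈ W, q x * z ∈ W := by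
      intro x hx z hz
      obtain ⟨i, hi⟩ := hcov x hx
      rw [hqeq x hx i hi]
      fin_cases i
      · exact (hstep z hz).1
      · exact (hstep z hz).2
      · show q (b * c * b) * z ∈ W
        rw [map_mul, map_mul, mul_assoc, mul_assoc]
        exact (hstep _ (hstep _ (hstep z hz).1).2).1
    induction hg using Subgroup.closure_induction_left with
    | one => simp [W]
    | mul_left x hx y hy ih => rw [map_mul]; exact gen_step x hx _ ih
    | inv_mul_cancel x hx y hy ih => rw [hS.inv hx, map_mul]; exact gen_step x hx _ ih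
  have hcard : Nat.card (G ⧸ cder D b) ≤ Nat.card (Equiv.Perm (Fin 3)) := by
    haveI := Fintype.ofFinite (G ⧸ cder D b)
    rw [Nat.card_eq_fintype_card, Nat.card_eq_fintype_card, Fintype.card_perm, Fintype.card_fin,
      ← Finset.card_univ]
    refine le_trans (Finset.card_le_card (t := W.toFinset) fun z _ => ?_) ((List.toFinset_card_le W).trans (by decide : 6 ≤ Nat.factorial 3))
    obtain ⟨g, rfl⟩ := QuotientGroup.mk'_surjective _ z
    exact List.mem_toFinset.2 (hW g)
  exact ⟨MulEquiv.ofBijective f ((Nat.bijective_iff_surjective_and_card f).2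
    ⟨hsurj, le_antisymm hcard (Nat.card_le_card_of_surjective f hsurj)⟩)⟩

/-- The generalised Fitting subgroup is the common derived group. -/
theorem gfit {b : G} (hb : b ∈ D) : Cfsg.generalizedFittingSubgroup G = cder D b := by
  haveI := h.cder_normal hb
  obtain ⟨e⟩ := h.cder_equiv hb
  haveI hs : IsSimpleGroup ↥(cder D b) := by
    haveI := (h.comp_fi hb).simple
    exact e.isSimpleGroup
  refine CfsgLib.ThreeT.Prod.gfit_simple (cder D b) (fun hsol => ?_) ?_
  · haveI := hsol
    have h0 : cder D b = ⊥ := h.sol _ inferInstance hsol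
    exact (Subgroup.nontrivial_iff_ne_bot _).1 hs.toNontrivial h0
  · rw [Subgroup.eq_bot_iff_forall]
    exact fun z hz => h.cder_centralizer hb fun n hn => (Subgroup.mem_centralizer_iff.1 hz n hn).symm

end Disc

end CfsgLib.Fischer
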