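import Cfsg.Agent.Fischer.Disc.ReflLin
import Cfsg.Agent.Fischer.Disc.Clifford

/-!
Reflection coordinates carry commuting shifts only in dimension eight, where shifts are conjugate.
-/

set_option autoImplicit false
set_option linter.unusedSectionVars false
set_option linter.style.haveILetI false

namespace CfsgLib.Fischer

open CfsgLib.ThreeT CfsgLib.ThreeT.Prod

universe u

variable {G : Type u} [Group G] {S : Set G} {n : ℕ} {Q : QuadraticForm (ZMod 3) (Fin n → ZMod 3)}
  {φ : G → Fin n → ZMod 3}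

/-- Commuting shifts whose products are shifts. -/
structure SClique (S : Set G) {r : ℕ} (a : Fin r → G) : Prop where
  sa : ∀ i, Shift S (a i)
  prod : ∀ i j, i ≠ j → Shift S (a i * a j)

section main

variable (f : RC S Q φ) (hS : Closed S) (hgen : Subgroup.closure S = ⊤)
  (hQ : (QuadraticMap.polarBilin Q).Nondegenerate) (hn : 5 ≤ n)
include f hS hgen hQ hn

/-- A shift gives a complex structure. -/
theorem exists_cx {g : G} (hg : Shift S g) : ∃ L, Cx Q L ∧ Acts S φ g L := by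
  obtain ⟨L, -, hL⟩ := exists_acts f hS (hgen ▸ Subgroup.mem_top g)
  exact ⟨L, shift_cx f hS hQ hn (hgen ▸ Subgroup.mem_top g) hg hL, hL⟩

/-- A shift needs even dimension. -/
theorem shift_even {g : G} (hg : Shift S g) : Even n := by
  obtain ⟨L, hL, -⟩ := exists_cx f hS hgen hQ hn hg
  have h1 : LinearMap.det (L.1.toLinearMap.comp L.1.toLinearMap) =
      LinearMap.det ((-1 : ZMod 3) • (LinearMap.id : (Fin n → ZMod 3) →ₗ[ZMod 3] (Fin n → ZMod 3))) := by
    refine congrArg _ (LinearMap.ext fun x => ?_)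
    show L.1 (L.1 x) = (-1 : ZMod 3) • x
    rw [hL.sq, neg_one_smul]
  rw [LinearMap.det_comp, LinearMap.det_smul, LinearMap.det_id, Module.finrank_fin_fun, mul_one] at h1
  rcases Nat.even_or_odd n with e | e
  · exact e
  · rw [e.neg_one_pow] at h1
    exact ((show ∀ d : ZMod 3, d * d = -1 → False by decide) _ h1).elim

/-- Cliques of shifts fill only dimension eight. -/
theorem clique_eight {a : Fin (n - 2) → G} (C : SClique S a) : n = 8 := by
  obtain ⟨h, hh⟩ := shift_even f hS hgen hQ hn (C.sa ⟨0, by omega⟩)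
  choose L hL hL' using fun i => exists_cx f hS hgen hQ hn (C.sa i)
  obtain ⟨k, hk⟩ : ∃ k, n - 2 = 2 * k := ⟨h - 1, by omega⟩
  have hdvd := anti_dvd k (Fin n → ZMod 3) (-1) (fun i => (L (Fin.cast hk.symm i)).1.toLinearMap) rfl
    (fun i x => by rw [neg_one_smul]; exact (hL _).sq x)
    fun i j hij x => shift_anti f hS hQ hn (hgen ▸ Subgroup.mem_top _) (hgen ▸ Subgroup.mem_top _)
      (C.prod _ _ fun e => hij (Fin.cast_injective _ e)) (hL' _) (hL' _) (hL _) (hL _) x
  rw [Module.finrank_fin_fun] at hdvd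
  have hle := Nat.le_of_dvd (by omega) hdvd
  have h3 : k ≤ 3 := by
    by_contra h4
    obtain ⟨t, rfl⟩ : ∃ t, k = t + 4 := ⟨k - 4, by omega⟩
    have ht : t < 2 ^ t := Nat.lt_two_pow_self
    rw [pow_add] at hle
    omega
  interval_cases k <;> obtain ⟨c, hc⟩ := hdvd <;> omega

end main

section frame

variable (hQ : (QuadraticMap.polarBilin Q).Nondegenerate)
include hQ

/-- An orthonormal basis adapted to a complex structure. -/
theorem cx_frame {m : ℕ} {L : ↥(CfsgLib.Quad.oGroup Q)} (h : Cx Q L) :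
    2 * m ≤ n → ∃ v : Fin m → Fin n → ZMod 3, (∀ i, Q (v i) = 1) ∧ (∀ i j, i ≠ j → pb Q (v i) (v j) = 0) ∧
      (∀ i j, pb Q (v i) (L.1 (v j)) = 0) ∧
      ∃ Z : Submodule (ZMod 3) (Fin n → ZMod 3), ND Q Z ∧ n ≤ Module.finrank (ZMod 3) Z + 2 * m ∧
        (∀ z ∈ Z, L.1 z ∈ Z) ∧ ∀ z ∈ Z, ∀ i, pb Q (v i) z = 0 ∧ pb Q (L.1 (v i)) z = 0 := by
  induction m with
  | zero =>
    intro _
    exact ⟨fun i => i.elim0, fun i => i.elim0, fun i => i.elim0, fun i => i.elim0, ⊤, nd_top hQ,
      by rw [finrank_top']; omega, fun z _ => trivial, fun z _ i => i.elim0⟩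
  | succ m ih =>
    intro hm
    obtain ⟨v, hv1, hv2, hv3, Z, hZ, hd, hinv, hperp⟩ := ih (by omega)
    obtain ⟨w, hw, qw⟩ := hZ.exists_one (by omega)
    have hZ1 := hZ.perp_aniso hw (by rw [qw]; decide)
    have hLw : L.1 w ∈ perp Q Z w := ⟨hinv w hw, h.perp_self w⟩
    have qLw : Q (L.1 w) = 1 := (L.2 w).trans qw
    have hZ2 := hZ1.perp_aniso hLw (by rw [qLw]; decide)
    have hadj : ∀ x y, pb Q x (L.1 y) = -pb Q (L.1 x) y := by
      intro x y
      have e : pb Q (L.1 x) (L.1 (L.1 y)) = pb Q x (L.1 y) := CfsgLib.Quad.polar_oGroup L x (L.1 y)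
      rw [h.sq, map_neg] at e
      exact e.symm
    refine ⟨Fin.cons w v, Fin.cases qw hv1, ?_, ?_, perp Q (perp Q Z w) (L.1 w), hZ2, ?_, ?_, ?_⟩
    · intro i j hij
      cases i using Fin.cases with
      | zero =>
        cases j using Fin.cases with
        | zero => exact absurd rfl hij
        | succ j => simp only [Fin.cons_zero, Fin.cons_succ]; rw [pb_symm]; exact (hperp w hw j).1
      | succ i =>
        cases j using Fin.cases with
        | zero => simp only [Fin.cons_zero, Fin.cons_succ]; exact (hperp w hw i).1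
        | succ j => simp only [Fin.cons_succ]; exact hv2 i j fun e => hij (by rw [e])
    · intro i j
      cases i using Fin.cases with
      | zero =>
        cases j using Fin.cases with
        | zero => exact h.perp_self w
        | succ j => simp only [Fin.cons_zero, Fin.cons_succ]; rw [pb_symm]; exact (hperp w hw j).2
      | succ i =>
        cases j using Fin.cases with
        | zero => simp only [Fin.cons_zero, Fin.cons_succ]; exact (hperp _ (hinv w hw) i).1
        | succ j => simp only [Fin.cons_succ]; exact hv3 i j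
    · have := finrank_perp Q Z w
      have := finrank_perp Q (perp Q Z w) (L.1 w)
      omega
    · rintro z ⟨⟨hz, hz1⟩, hz2⟩
      have hz1' : pb Q w z = 0 := hz1
      have hz2' : pb Q (L.1 w) z = 0 := hz2
      refine ⟨⟨hinv z hz, ?_⟩, ?_⟩
      · show pb Q w (L.1 z) = 0
        rw [hadj, hz2', neg_zero]
      · show pb Q (L.1 w) (L.1 z) = 0
        exact (CfsgLib.Quad.polar_oGroup L w z).trans hz1'
    · rintro z ⟨⟨hz, hz1⟩, hz2⟩ i
      cases i using Fin.cases with
      | zero => exact ⟨hz1, hz2⟩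
      | succ i => simp only [Fin.cons_succ]; exact hperp z hz i

end frame

/-- The quarter turn of one plane. -/
theorem plane_turn {L : ↥(CfsgLib.Quad.oGroup Q)} (h : Cx Q L) {v : Fin n → ZMod 3} (qv : Q v = 1)
    (x : Fin n → ZMod 3) :
    L.1 ((CfsgLib.Quad.refl Q (v + L.1 v) * CfsgLib.Quad.refl Q v).1 x) =
      (CfsgLib.Quad.refl Q (v + L.1 v) * CfsgLib.Quad.refl Q v).1 (L.1 x) := by
  have qLv : Q (L.1 v) = 1 := (L.2 v).trans qv
  have hR : ∀ y, (CfsgLib.Quad.refl Q v).1 y = y + (-pb Q v y) • v := fun y => by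
    rw [CfsgLib.ReflThree.refl_apply', qv, neg_one_mul, QuadraticMap.polar_comm]; rfl
  have qw : Q (v + L.1 v) = -1 := by rw [q_add, qv, qLv, h.perp_self]; decide
  have hW : ∀ y, (CfsgLib.Quad.refl Q (v + L.1 v)).1 y = y + pb Q (v + L.1 v) y • (v + L.1 v) := fun y => by
    rw [CfsgLib.ReflThree.refl_apply', qw, neg_neg, one_mul, QuadraticMap.polar_comm]; rfl
  have hadj : ∀ y, pb Q v (L.1 y) = -pb Q (L.1 v) y := by
    intro y
    have e : pb Q (L.1 v) (L.1 (L.1 y)) = pb Q v (L.1 y) := CfsgLib.Quad.polar_oGroup L v (L.1 y)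
    rw [h.sq, map_neg] at e
    exact e.symm
  have hadj' : pb Q (L.1 v) (L.1 x) = pb Q v x := CfsgLib.Quad.polar_oGroup L v x
  show L.1 ((CfsgLib.Quad.refl Q (v + L.1 v)).1 ((CfsgLib.Quad.refl Q v).1 x)) =
    (CfsgLib.Quad.refl Q (v + L.1 v)).1 ((CfsgLib.Quad.refl Q v).1 (L.1 x))
  rw [hR, hR, hW, hW]
  simp only [map_add, map_smul, LinearMap.add_apply, smul_eq_mul, h.sq, hadj x, hadj', pb_self, qv,
    pb_symm Q (L.1 v) v, h.perp_self v]
  funext k
  simp only [Pi.add_apply, Pi.smul_apply, Pi.neg_apply, smul_eq_mul]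
  generalize L.1 x k = X; generalize v k = V; generalize L.1 v k = W
  generalize pb Q v x = s; generalize pb Q (L.1 v) x = t
  revert X V W s t
  decide

section eight

variable {Q : QuadraticForm (ZMod 3) (Fin 8 → ZMod 3)} {φ : G → Fin 8 → ZMod 3}
variable (f : RC S Q φ) (hS : Closed S) (hgen : Subgroup.closure S = ⊤) (hZ : Subgroup.center G = ⊥)
  (hQ : (QuadraticMap.polarBilin Q).Nondegenerate)
include hQ

/-- The adapted basis. -/
theorem cx_basis {L : ↥(CfsgLib.Quad.oGroup Q)} (h : Cx Q L) :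
    ∃ e : (Fin 4 ⊕ Fin 4 → ZMod 3) ≃ₗ[ZMod 3] (Fin 8 → ZMod 3), (∀ x, Q (e x) = ∑ k, x k * x k) ∧
      ∀ x, L.1 (e x) = e (Sum.elim (fun i => -x (Sum.inr i)) fun i => x (Sum.inl i)) := by
  obtain ⟨v, hv1, hv2, hv3, -⟩ := cx_frame hQ (m := 4) h (le_refl 8)
  set w : Fin 4 ⊕ Fin 4 → Fin 8 → ZMod 3 := Sum.elim v fun i => L.1 (v i) with hw
  let e₀ : (Fin 4 ⊕ Fin 4 → ZMod 3) →ₗ[ZMod 3] (Fin 8 → ZMod 3) := (Pi.basisFun (ZMod 3) _).constr (ZMod 3) w
  have he : ∀ x, e₀ x = ∑ k, x k • w k := fun x => by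
    simp [e₀, Module.Basis.constr_apply_fintype]
  have hgram : ∀ k l, pb Q (w k) (w l) = if k = l then -1 else 0 := by
    intro k l
    by_cases e : k = l
    · subst e
      rw [if_pos rfl, pb_self]
      rcases k with k | k <;> simp only [hw, Sum.elim_inl, Sum.elim_inr]
      · rw [hv1]; decide
      · rw [L.2, hv1]; decide
    rw [if_neg e]
    rcases k with k | k <;> rcases l with l | l <;> simp only [hw, Sum.elim_inl, Sum.elim_inr]
    · exact hv2 k l fun r => e (by rw [r])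
    · exact hv3 k l
    · rw [pb_symm]; exact hv3 l k
    · exact (CfsgLib.Quad.polar_oGroup L (v k) (v l)).trans (hv2 k l fun r => e (by rw [r]))
  have hform : ∀ x l, pb Q (e₀ x) (w l) = -x l := by
    intro x l
    rw [he, map_sum, LinearMap.sum_apply, Finset.sum_eq_single l (fun k _ hk => by simp [hgram, hk]) (by simp)]
    simp [hgram]
  have hQe : ∀ x, Q (e₀ x) = ∑ k, x k * x k := by
    intro x
    have h2 : pb Q (e₀ x) (e₀ x) = 2 * Q (e₀ x) := pb_self Q _
    have h3 : pb Q (e₀ x) (e₀ x) = -∑ k, x k * x k := by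
      conv_lhs => arg 2; rw [he]
      rw [map_sum]
      simp only [map_smul, hform, smul_eq_mul, mul_neg, Finset.sum_neg_distrib]
    rw [h3] at h2
    revert h2
    generalize ∑ k, x k * x k = a; generalize Q (e₀ x) = b
    revert a b; decide
  have hinj : Function.Injective e₀ := by
    rw [injective_iff_map_eq_zero]
    intro x hx
    funext l
    have := hform x l
    rw [hx, map_zero, LinearMap.zero_apply] at this
    exact (neg_eq_zero.1 this.symm)
  refine ⟨LinearEquiv.ofBijective e₀ ⟨hinj,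
    (LinearMap.injective_iff_surjective_of_finrank_eq_finrank (by simp)).1 hinj⟩, hQe, fun x => ?_⟩
  show L.1 (e₀ x) = e₀ _
  rw [he, he, map_sum, Fintype.sum_sum_type, Fintype.sum_sum_type]
  simp only [map_smul, hw, Sum.elim_inl, Sum.elim_inr, h.sq, smul_neg, neg_smul, Finset.sum_neg_distrib]
  abel

omit hQ in
theorem sum_det (e : (Fin 4 ⊕ Fin 4 → ZMod 3) ≃ₗ[ZMod 3] (Fin 8 → ZMod 3))
    (he : ∀ x, Q (e x) = ∑ k, x k * x k) : Cfsg.polarGramDet (⇑Q) = 1 := by
  classical
  set b₁ := ((Pi.basisFun (ZMod 3) (Fin 4 ⊕ Fin 4)).map e).reindex (finSumFinEquiv (m := 4) (n := 4))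
  set A := LinearMap.BilinForm.toMatrix (Pi.basisFun (ZMod 3) (Fin 8)) (pb Q)
  have hA : Cfsg.polarGramDet (⇑Q) = A.det := by
    rw [Cfsg.polarGramDet]
    congr 1
  have hB : LinearMap.BilinForm.toMatrix b₁ (pb Q) = (-1 : ZMod 3) • (1 : Matrix (Fin 8) (Fin 8) (ZMod 3)) := by
    ext i j
    have hs : ∀ k, Q (e (Pi.single k 1)) = 1 := fun k => by simp [he, Pi.single_apply]
    rw [LinearMap.BilinForm.toMatrix_apply, Matrix.smul_apply, Matrix.one_apply]
    simp only [b₁, Module.Basis.reindex_apply, Module.Basis.map_apply, Pi.basisFun_apply]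
    by_cases hij : i = j
    · subst hij
      rw [if_pos rfl, pb_self, hs]
      decide
    · rw [if_neg hij, smul_zero, QuadraticMap.polarBilin_apply_apply, QuadraticMap.polar, ← map_add, he, he, he]
      have hne : (finSumFinEquiv (m := 4) (n := 4)).symm i ≠ (finSumFinEquiv (m := 4) (n := 4)).symm j :=
        fun r => hij (Equiv.injective _ r)
      simp [Pi.single_apply, add_mul, mul_add, Finset.sum_add_distrib, hne, hne.symm]
  have h := LinearMap.BilinForm.toMatrix_mul_basis_toMatrix (b := Pi.basisFun (ZMod 3) (Fin 8)) b₁ (pb Q)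
  have h2 := congrArg Matrix.det h
  rw [Matrix.det_mul, Matrix.det_mul, Matrix.det_transpose, hB, Matrix.det_smul, Matrix.det_one,
    Fintype.card_fin] at h2
  rw [hA]
  revert h2
  generalize ((Pi.basisFun (ZMod 3) (Fin 8)).toMatrix b₁).det = d
  generalize A.det = x
  revert d x
  decide

include f hS hgen

theorem shift_det {g : G} (hg : Shift S g) : Cfsg.polarGramDet (⇑Q) = 1 := by
  obtain ⟨L, hL, -⟩ := exists_cx f hS hgen hQ (by norm_num) hg
  obtain ⟨e, he, -⟩ := cx_basis hQ hL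
  exact sum_det e he

include hZ

/-- Shifts are conjugate. -/
theorem shift_conj_eight {g g' : G} (hg : Shift S g) (hg' : Shift S g') : ∃ t : G, t * g * t⁻¹ = g' := by
  classical
  have hn : 5 ≤ 8 := by norm_num
  have htop : ∀ x : G, x ∈ Subgroup.closure S := fun x => hgen ▸ Subgroup.mem_top x
  obtain ⟨L, hL, aL⟩ := exists_cx f hS hgen hQ hn hg
  obtain ⟨L', hL', aL'⟩ := exists_cx f hS hgen hQ hn hg'
  obtain ⟨e, he, heL⟩ := cx_basis hQ hL
  obtain ⟨e', he', heL'⟩ := cx_basis hQ hL'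
  let T : ↥(CfsgLib.Quad.oGroup Q) := ⟨e.symm.trans e', fun x => by
    show Q (e' (e.symm x)) = Q x
    rw [he', ← he, LinearEquiv.apply_symm_apply]⟩
  have hT : ∀ x, T.1 (L.1 x) = L'.1 (T.1 x) := by
    intro x
    obtain ⟨y, rfl⟩ := e.surjective x
    show e' (e.symm (L.1 (e y))) = L'.1 (e' (e.symm (e y)))
    rw [heL, LinearEquiv.symm_apply_apply, LinearEquiv.symm_apply_apply, heL']
  obtain ⟨T', hT'R, hT'⟩ : ∃ T' ∈ Subgroup.closure (CfsgLib.ReflThree.rset Q 1), ∀ x, T'.1 (L.1 x) = L'.1 (T'.1 x) := by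
    by_cases hmem : T ∈ Subgroup.closure (CfsgLib.ReflThree.rset Q 1)
    · exact ⟨T, hmem, hT⟩
    obtain ⟨v, -, qv⟩ := (nd_top hQ).exists_one (by rw [finrank_top']; norm_num)
    set c := CfsgLib.Quad.refl Q (v + L.1 v) * CfsgLib.Quad.refl Q v with hc
    have h2 : (2 : ZMod 3) ≠ 0 := by decide
    have hq : Q (v + L.1 v) = 2 := by rw [q_add, (L.2 v).trans qv, qv, hL.perp_self]; decide
    have hcR : c ∉ Subgroup.closure (CfsgLib.ReflThree.rset Q 1) := by
      intro h
      have h1 : CfsgLib.Quad.refl Q (v + L.1 v) ∈ Subgroup.closure (CfsgLib.ReflThree.rset Q 1) := by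
        have := Subgroup.mul_mem _ h (Subgroup.subset_closure (show CfsgLib.Quad.refl Q v ∈ _ from ⟨v, qv, rfl⟩))
        rwa [hc, mul_assoc, CfsgLib.Quad.refl_mul_self, mul_one] at this
      obtain ⟨ψ, hψ, -⟩ := CfsgLib.Quad.exists_class_hom hQ h2 (by rw [Module.finrank_fin_fun]; norm_num)
        (show (1 : ZMod 3) ≠ 0 by decide)
      have hle : Subgroup.closure (CfsgLib.ReflThree.rset Q 1) ≤ ψ.ker := by
        refine (Subgroup.closure_le _).mpr ?_
        rintro _ ⟨w, hw, rfl⟩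
        exact (hψ w (by rw [hw]; decide)).mpr (by rw [hw]; exact IsSquare.mul_self 1)
      have h3 := (hψ (v + L.1 v) (by rw [hq]; decide)).mp (hle h1)
      rw [hq, one_mul] at h3
      obtain ⟨r, hr⟩ := h3
      revert hr
      revert r
      decide
    refine ⟨T * c, ?_, fun x => ?_⟩
    · rw [Subgroup.mul_mem_iff_of_index_two (CfsgLib.ReflThree.index_closure hQ hn (by decide))]
      exact iff_of_false hmem hcR
    · show T.1 (c.1 (L.1 x)) = L'.1 (T.1 (c.1 x))
      rw [← hT, hc, plane_turn hL qv]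
  obtain ⟨t, -, ht⟩ := refl_realise f hS hT'R
  refine ⟨t, ?_⟩
  have hconj : Acts S φ (t * g * t⁻¹) L' := by
    have h1 : Acts S φ (t * g * t⁻¹) (T' * L * T'⁻¹) :=
      Acts.mul f hS (htop _) (Acts.mul f hS (htop _) ht aL) (Acts.inv f hS (htop _) ht)
    rwa [show T' * L * T'⁻¹ = L' from Subtype.ext (LinearEquiv.ext fun x => by
      show T'.1 (L.1 (T'.1.symm x)) = L'.1 x
      rw [hT', LinearEquiv.apply_symm_apply])] at h1
  have hz : g'⁻¹ * (t * g * t⁻¹) = 1 := by
    rw [← Subgroup.mem_bot, ← hZ, Subgroup.mem_center_iff]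
    intro x
    refine (Prod.commute_of_closure (S := S) (fun p hp => ?_) x (htop x)).eq
    obtain ⟨a, ha, e1⟩ := hconj p hp
    obtain ⟨b, hb, e2⟩ := aL' p hp
    have e3 : t * g * t⁻¹ * p * (t * g * t⁻¹)⁻¹ = g' * p * g'⁻¹ := by
      refine f.inj _ (hS.conj_mem (htop _) p hp) _ (hS.conj_mem (htop _) p hp) ?_
      rw [e1, e2]
      rcases (show ∀ a b : ZMod 3, a * a = 1 → b * b = 1 → a = b ∨ a = -b by decide) a b ha hb with r | r
      · exact Or.inl (by rw [r])
      · exact Or.inr (by rw [r, neg_smul])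
    refine (mul_inv_eq_iff_eq_mul.1 ?_).symm
    calc g'⁻¹ * (t * g * t⁻¹) * p * (g'⁻¹ * (t * g * t⁻¹))⁻¹
        = g'⁻¹ * (t * g * t⁻¹ * p * (t * g * t⁻¹)⁻¹) * g' := by group
      _ = g'⁻¹ * (g' * p * g'⁻¹) * g' := by rw [e3]
      _ = p := by group
  exact (inv_mul_eq_one.1 hz).symm

end eight

end CfsgLib.Fischer
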