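import Cfsg.Agent.Fischer.Disc.QuadCases
import Cfsg.Agent.Fischer.Disc.ReflCases

/-!
The patterns of neighbours that give commuting shifts.
-/

set_option autoImplicit false
set_option linter.unusedSectionVars false
set_option linter.style.haveILetI false

namespace CfsgLib.Fischer

open CfsgLib.ThreeT CfsgLib.ThreeT.Prod

universe u v

variable {G : Type u} [Group G] {S : Set G}

/-- Neighbours of one member in hyperbolic pairs. -/
def PPat (S : Set G) (r : ℕ) : Prop :=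
  ∃ x ∈ S, ∃ y y' : Fin r → G, (∀ i, y i ∈ nb S x) ∧ (∀ i, y' i ∈ nb S x) ∧ (∀ i j, Commute (y i) (y j)) ∧
    (∀ i j, Commute (y' i) (y' j)) ∧ ∀ i j, Commute (y i) (y' j) ↔ i ≠ j

/-- Commuting neighbours of one member. -/
def CPat (S : Set G) (r : ℕ) : Prop :=
  ∃ x ∈ S, ∃ y : Fin r → G, (∀ i, y i ∈ nb S x) ∧ ∀ i j, i ≠ j → y i ≠ y j ∧ Commute (y i) (y j)

section transfer

variable {H : Type v} [Group H] {S' : Set H} {φ : G → H} (hmem : Set.MapsTo φ S S') (hinj : Set.InjOn φ S)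
  (hcom : ∀ x ∈ S, ∀ y ∈ S, (Commute (φ x) (φ y) ↔ Commute x y))
include hmem hinj hcom

theorem PPat.map {r : ℕ} (P : PPat S r) : PPat S' r := by
  obtain ⟨x, hx, y, y', hy, hy', c1, c2, c3⟩ := P
  exact ⟨φ x, hmem hx, φ ∘ y, φ ∘ y',
    fun i => ⟨hmem (hy i).1, fun e => (hy i).2.1 (hinj (hy i).1 hx e), (hcom _ hx _ (hy i).1).2 (hy i).2.2⟩,
    fun i => ⟨hmem (hy' i).1, fun e => (hy' i).2.1 (hinj (hy' i).1 hx e), (hcom _ hx _ (hy' i).1).2 (hy' i).2.2⟩,
    fun i j => (hcom _ (hy i).1 _ (hy j).1).2 (c1 i j), fun i j => (hcom _ (hy' i).1 _ (hy' j).1).2 (c2 i j),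
    fun i j => (hcom _ (hy i).1 _ (hy' j).1).trans (c3 i j)⟩

theorem CPat.map {r : ℕ} (P : CPat S r) : CPat S' r := by
  obtain ⟨x, hx, y, hy, c⟩ := P
  exact ⟨φ x, hmem hx, φ ∘ y,
    fun i => ⟨hmem (hy i).1, fun e => (hy i).2.1 (hinj (hy i).1 hx e), (hcom _ hx _ (hy i).1).2 (hy i).2.2⟩,
    fun i j hij => ⟨fun e => (c i j hij).1 (hinj (hy i).1 (hy j).1 e), (hcom _ (hy i).1 _ (hy j).1).2 (c i j hij).2⟩⟩

end transfer

/-- Hyperbolic pairs apart from a point. -/
theorem quad_pat {m : ℕ} (hS : Closed S) {q : (Fin (m + 1) ⊕ Fin (m + 1) → ZMod 2) → ZMod 2} (hq : IsQ (m + 1) q)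
    {φ : G → Fin (m + 1) ⊕ Fin (m + 1) → ZMod 2} (f : TwoCo S (sform (m + 1)) {v | q v = 1} φ)
    {u : Fin (m + 1) ⊕ Fin (m + 1) → ZMod 2} (hu : q u = 1)
    (hl : ∀ i : Fin m, sform (m + 1) (Pi.single (Sum.inl i.succ) 1) u = 0)
    (hr : ∀ i : Fin m, sform (m + 1) (Pi.single (Sum.inr i.succ) 1) u = 0)
    (ql : ∀ i : Fin m, q (Pi.single (Sum.inl i.succ) 1) = 0) (qr : ∀ i : Fin m, q (Pi.single (Sum.inr i.succ) 1) = 0) :
    PPat S m := by
  obtain ⟨x, hx, ex⟩ := f.bij.surjOn hu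
  have hex : ∀ k, q (Pi.single k 1) = 0 → sform (m + 1) (Pi.single k 1) u = 0 →
      ∃ y ∈ nb S x, φ y = Pi.single k 1 + u := by
    intro k hqk hk
    obtain ⟨y, hy, ey⟩ := f.bij.surjOn (show q (Pi.single k 1 + u) = 1 by rw [hq, hqk, hu, hk, zero_add, add_zero])
    refine ⟨y, ⟨hy, fun e => ?_, (f.commute_iff hS hx hy).2 ?_⟩, ey⟩
    · rw [e, ex] at ey
      have h1 : (0 : Fin (m + 1) ⊕ Fin (m + 1) → ZMod 2) + u = Pi.single k 1 + u := by rw [zero_add]; exact ey
      exact absurd (congrFun (add_right_cancel h1) k) (by simp)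
    · rw [ex, ey, map_add, sform_symm, hk, sform_self, add_zero]
  choose y hy ey using fun i : Fin m => hex (Sum.inl i.succ) (ql i) (hl i)
  choose y' hy' ey' using fun i : Fin m => hex (Sum.inr i.succ) (qr i) (hr i)
  refine ⟨x, hx, y, y', hy, hy', fun i j => ?_, fun i j => ?_, fun i j => ?_⟩
  · rw [f.commute_iff hS (hy i).1 (hy j).1, ey, ey]
    simp only [map_add, LinearMap.add_apply, hl, sform_symm u, sform_self, sform_apply]
    rw [CfsgLib.Symp.form_single_inl]
    simp [CharTwo.neg_eq, Pi.single_apply, ← sform_apply, sform_symm u, hl]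
  · rw [f.commute_iff hS (hy' i).1 (hy' j).1, ey', ey']
    simp only [map_add, LinearMap.add_apply, hr, sform_symm u, sform_self, sform_apply]
    rw [CfsgLib.Symp.form_single_inr]
    simp [CharTwo.neg_eq, Pi.single_apply, ← sform_apply, sform_symm u, hr]
  · rw [f.commute_iff hS (hy i).1 (hy' j).1, ey, ey']
    simp only [map_add, LinearMap.add_apply, hl, hr, sform_symm u, sform_self, sform_apply]
    rw [CfsgLib.Symp.form_single_inl]
    simp [CharTwo.neg_eq, Pi.single_apply, ← sform_apply, sform_symm u, hl, hr, Fin.succ_inj]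

theorem plus_pat {m : ℕ} (hS : Closed S) {φ : G → Fin (m + 1) ⊕ Fin (m + 1) → ZMod 2}
    (f : TwoCo S (sform (m + 1)) {v | qplus (m + 1) v = 1} φ) : PPat S m := by
  refine quad_pat hS (qplus_isQ _) f (u := delta0 m) (qplus_delta0 m) (fun i => ?_) (fun i => ?_)
    (fun i => qplus_single _ _) fun i => qplus_single _ _ <;>
  · rw [sform_symm, sform_delta0]
    simp [Pi.single_apply, (Fin.succ_ne_zero i).symm]

theorem minus_pat {m : ℕ} (hS : Closed S) {φ : G → Fin (m + 1) ⊕ Fin (m + 1) → ZMod 2}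
    (f : TwoCo S (sform (m + 1)) {v | qminus m v = 1} φ) : PPat S m := by
  have hq : ∀ k, k ≠ Sum.inl 0 → k ≠ Sum.inr 0 → qminus m (Pi.single k 1) = 0 := fun k h1 h2 => by
    rw [qminus, qplus_single, sform_delta0]
    simp [Pi.single_eq_of_ne h1.symm, Pi.single_eq_of_ne h2.symm]
  refine quad_pat hS (qminus_isQ m) f (u := Pi.single (Sum.inl 0) 1) ?_ (fun i => ?_) (fun i => ?_)
    (fun i => hq _ (by simp [Fin.succ_ne_zero]) (by simp)) fun i => hq _ (by simp) (by simp [Fin.succ_ne_zero])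
  · rw [qminus, qplus_single, sform_delta0]
    simp
  · rw [sform_apply, CfsgLib.Symp.form_single_inl]
    simp
  · rw [sform_apply, CfsgLib.Symp.form_single_inr]
    simp [Pi.single_apply, Fin.succ_ne_zero]

/-- Orthogonal points of norm one. -/
theorem orth_ones {n : ℕ} {Q : QuadraticForm (ZMod 3) (Fin n → ZMod 3)}
    (hQ : (QuadraticMap.polarBilin Q).Nondegenerate) : ∀ r, r + 1 ≤ n →
    ∃ w : Fin r → Fin n → ZMod 3, (∀ i, Q (w i) = 1) ∧ (∀ i j, i ≠ j → pb Q (w i) (w j) = 0) ∧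
      ∃ Z : Submodule (ZMod 3) (Fin n → ZMod 3), ND Q Z ∧ n ≤ Module.finrank (ZMod 3) Z + r ∧
        ∀ z ∈ Z, ∀ i, pb Q (w i) z = 0 := by
  intro r
  induction r with
  | zero =>
    exact fun _ => ⟨fun i => i.elim0, fun i => i.elim0, fun i => i.elim0, ⊤, nd_top hQ,
      by rw [finrank_top']; omega, fun z _ i => i.elim0⟩
  | succ r ih =>
    intro hr
    obtain ⟨w, hw1, hw2, Z, hZ, hd, hp⟩ := ih (by omega)
    obtain ⟨a, ha, qa⟩ := hZ.exists_one (by omega)
    refine ⟨Fin.cons a w, Fin.cases qa hw1, fun i j hij => ?_, perp Q Z a, hZ.perp_aniso ha (by rw [qa]; decide),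
      by have := finrank_perp Q Z a; omega, fun z hz i => ?_⟩
    · cases i using Fin.cases with
      | zero =>
        cases j using Fin.cases with
        | zero => exact absurd rfl hij
        | succ j => simp only [Fin.cons_zero, Fin.cons_succ]; rw [pb_symm]; exact hp a ha j
      | succ i =>
        cases j using Fin.cases with
        | zero => simp only [Fin.cons_zero, Fin.cons_succ]; exact hp a ha i
        | succ j => simp only [Fin.cons_succ]; exact hw2 i j fun e => hij (by rw [e])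
    · cases i using Fin.cases with
      | zero => exact hz.2
      | succ i => simp only [Fin.cons_succ]; exact hp z hz.1 i

theorem refl_pat {n : ℕ} (hS : Closed S) (hn : 5 ≤ n) {Q : QuadraticForm (ZMod 3) (Fin n → ZMod 3)}
    (hQ : (QuadraticMap.polarBilin Q).Nondegenerate) {φ : G → Fin n → ZMod 3} (f : RC S Q φ) : CPat S (n - 2) := by
  obtain ⟨w, hw1, hw2, -⟩ := orth_ones hQ (n - 2 + 1) (by omega)
  choose z hz k hk ez using fun i => f.exists_rep (hw1 i)
  have hp : ∀ i j, i ≠ j → z i ≠ z j ∧ Commute (z i) (z j) := by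
    intro i j hij
    have e : pb Q (φ (z i)) (φ (z j)) = 0 := by
      rw [ez, ez]
      simp [hw2 i j hij]
    refine ⟨fun r => ?_, f.commute_of_form hS (hz i) (hz j) e⟩
    rw [r, f.self_form (hz j)] at e
    exact absurd e (by decide)
  refine ⟨z 0, hz 0, fun i => z i.succ, fun i => ⟨hz _, (hp _ _ (Fin.succ_ne_zero i)).1,
    (hp _ _ (Fin.succ_ne_zero i).symm).2⟩, fun i j hij => hp _ _ fun e => hij (Fin.succ_inj.1 e)⟩

end CfsgLib.Fischer
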