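import Cfsg.Agent.Fischer.Disc.Fermion
import Cfsg.Agent.Fischer.ModelsUnitary

/-!
Shifts over two elements give creation and annihilation operators.
-/

set_option autoImplicit false
set_option linter.unusedSectionVars false
set_option linter.style.haveILetI false

namespace CfsgLib.Fischer

open CfsgLib.ThreeT CfsgLib.ThreeT.Prod

universe u

variable {G : Type u} [Group G] {S : Set G} {r : ℕ}

/-- Pairs of shifts with the commuting pattern of creation and annihilation. -/
structure SPairs (S : Set G) (a b : Fin r → G) : Prop where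
  sa : ∀ i, Shift S (a i)
  sb : ∀ i, Shift S (b i)
  caa : ∀ i j, Commute (a i) (a j)
  cbb : ∀ i j, Commute (b i) (b j)
  cab : ∀ i j, i ≠ j → Commute (a i) (b j)
  three : ∀ i, (a i * b i) ^ 3 = 1
  move : ∀ i, ∀ p ∈ S, ¬ Commute (a i * b i * p * (a i * b i)⁻¹) p

variable {m : ℕ} {q : (Fin m ⊕ Fin m → ZMod 2) → ZMod 2} {φ : G → Fin m ⊕ Fin m → ZMod 2}

/-- Two linear maps agreeing on spanning points. -/
theorem TwoCo.ext_span (f : TwoCo S (sform m) {v | q v = 1} φ)
    (hspan : Submodule.span (ZMod 2) {v | q v = 1} = ⊤) {W : Type*} [AddCommGroup W] [Module (ZMod 2) W]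
    {L L' : (Fin m ⊕ Fin m → ZMod 2) →ₗ[ZMod 2] W} (h : ∀ p ∈ S, L (φ p) = L' (φ p)) : L = L' :=
  LinearMap.ext_on hspan fun v hv => by
    obtain ⟨p, hp, rfl⟩ := f.bij.surjOn hv
    exact h p hp

/-- A shift gives a nilpotent operator. -/
theorem shift_op (hS : Closed S) (hgen : Subgroup.closure S = ⊤) (hq : IsQ m q)
    (f : TwoCo S (sform m) {v | q v = 1} φ) (hspan : Submodule.span (ZMod 2) {v | q v = 1} = ⊤) {g : G}
    (hg : Shift S g) :
    ∃ A : (Fin m ⊕ Fin m → ZMod 2) →ₗ[ZMod 2] (Fin m ⊕ Fin m → ZMod 2),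
      FOp q A ∧ ∀ p ∈ S, φ (g * p * g⁻¹) = φ p + A (φ p) := by
  obtain ⟨L, hB, hQ, hL⟩ := f.linear hS (q := q) (fun a ha x => by
    rw [hq.tvec_apply, show q a = 1 from ha]
    generalize sform m a x = t; generalize q x = s
    revert t s; decide) (hgen ▸ Subgroup.mem_top g)
  have hLL : L.comp L = LinearMap.id := f.ext_span hspan fun p hp => by
    rw [LinearMap.comp_apply, LinearMap.id_apply, ← hL p hp, ← hL _ (hg.2 p hp).1,
      show g * (g * p * g⁻¹) * g⁻¹ = g * g * p * (g * g)⁻¹ by group, hg.1]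
    simp
  have hLL' : ∀ u, L (L u) = u := fun u => LinearMap.congr_fun hLL u
  have hadj : ∀ u v, sform m (L u) v = sform m u (L v) := fun u v => by
    conv_lhs => rw [← hLL' v, hB]
  let ω : (Fin m ⊕ Fin m → ZMod 2) →ₗ[ZMod 2] ZMod 2 :=
    { toFun := fun u => sform m u (L u)
      map_add' := fun u v => by
        simp only [map_add, LinearMap.add_apply]
        rw [show sform m v (L u) = sform m u (L v) by rw [← hadj, sform_symm]]
        generalize sform m u (L u) = c; generalize sform m v (L v) = d; generalize sform m u (L v) = e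
        revert c d e; decide
      map_smul' := fun c u => by
        simp only [map_smul, LinearMap.smul_apply, smul_eq_mul, RingHom.id_apply]
        generalize sform m u (L u) = d
        revert c d; decide }
  have hω : ω = 0 := f.ext_span hspan fun p hp => by
    show sform m (φ p) (L (φ p)) = 0
    rw [← hL p hp]
    exact (f.commute_iff hS hp (hg.2 p hp).1).1 (hg.2 p hp).2.2
  refine ⟨L + LinearMap.id, ⟨fun u v => ?_, fun u => ?_, fun u => ?_⟩, fun p hp => ?_⟩
  · simp only [LinearMap.add_apply, LinearMap.id_apply, map_add, hadj]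
  · simp only [LinearMap.add_apply, LinearMap.id_apply, map_add, hLL']
    rw [show u + L u + (L u + u) = u + u + (L u + L u) by abel, vadd_self, vadd_self, add_zero]
  · simp only [LinearMap.add_apply, LinearMap.id_apply]
    rw [hq, hQ, sform_symm, show sform m u (L u) = 0 from LinearMap.congr_fun hω u, add_zero]
    exact (show ∀ c : ZMod 2, c + c = 0 by decide) _
  · rw [hL p hp, LinearMap.add_apply, LinearMap.id_apply,
      show φ p + (L (φ p) + φ p) = L (φ p) + (φ p + φ p) by abel, vadd_self, add_zero]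

/-- An element of order three moving every point far away. -/
theorem order_three_far (hq : IsQ m q) (f : TwoCo S (sform m) {v | q v = 1} φ) (hS : Closed S)
    (hspan : Submodule.span (ZMod 2) {v | q v = 1} = ⊤) {g : G} (h3 : g ^ 3 = 1)
    {M : (Fin m ⊕ Fin m → ZMod 2) →ₗ[ZMod 2] (Fin m ⊕ Fin m → ZMod 2)}
    (hM : ∀ p ∈ S, φ (g * p * g⁻¹) = M (φ p)) (hB : ∀ u v, sform m (M u) (M v) = sform m u v)
    (hmove : ∀ p ∈ S, ¬ Commute (g * p * g⁻¹) p) (hmem : ∀ p ∈ S, g * p * g⁻¹ ∈ S) :
    ∀ u, M (M u) + M u + u = 0 := by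
  have hM3 : M.comp (M.comp M) = LinearMap.id := f.ext_span hspan fun p hp => by
    rw [LinearMap.comp_apply, LinearMap.comp_apply, LinearMap.id_apply, ← hM p hp, ← hM _ (hmem p hp),
      ← hM _ (hmem _ (hmem p hp)),
      show g * (g * (g * p * g⁻¹) * g⁻¹) * g⁻¹ = g ^ 3 * p * (g ^ 3)⁻¹ by simp only [pow_succ, pow_zero, one_mul]; group, h3]
    simp
  have h3' : ∀ u, M (M (M u)) = u := fun u => LinearMap.congr_fun hM3 u
  set N := M.comp M + M + LinearMap.id with hN
  have hN' : ∀ u, N u = M (M u) + M u + u := fun u => rfl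
  have hfix : ∀ u, M (N u) = N u := fun u => by
    rw [hN', map_add, map_add, h3']
    abel
  have hsing : ∀ u, q (N u) = 0 := fun u => by
    refine (two_cases _).resolve_right fun e => ?_
    obtain ⟨p, hp, ep⟩ := f.bij.surjOn e
    have h1 : g * p * g⁻¹ = p := f.bij.injOn (hmem p hp) hp (by rw [hM p hp, ep, hfix])
    exact hmove p hp (by rw [h1])
  have hperp : ∀ u v, sform m (N u) (N v) = 0 := fun u v => by
    have := hq (N u) (N v)
    rw [← map_add, hsing, hsing, hsing, add_zero, zero_add] at this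
    exact this.symm
  intro u
  refine sform_nondeg fun t => ?_
  have h1 : ∀ x y, sform m (M x) y = sform m x (M (M y)) := fun x y => by
    conv_lhs => rw [← h3' y, hB]
  have hfix' : M (M (M (M u) + M u + u)) = M (M u) + M u + u := by
    rw [← hN', hfix, hfix]
  have hinv1 : ∀ y, sform m (N u) (M y) = sform m (N u) y := fun y => by conv_lhs => rw [← hfix u, hB]
  have key : sform m (N u) (N t) = sform m (N u) t := by
    rw [hN' t, map_add, map_add, hinv1, hinv1]
    generalize sform m (N u) t = c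
    revert c; decide
  rw [← hN', ← key, hperp]

/-- The operators of shift pairs. -/
theorem SPairs.rep {a b : Fin r → G} (P : SPairs S a b) (hS : Closed S) (hgen : Subgroup.closure S = ⊤)
    (hq : IsQ m q) (f : TwoCo S (sform m) {v | q v = 1} φ) (hspan : Submodule.span (ZMod 2) {v | q v = 1} = ⊤) :
    ∃ A B : Fin r → (Fin m ⊕ Fin m → ZMod 2) →ₗ[ZMod 2] (Fin m ⊕ Fin m → ZMod 2),
      FRep q A B ∧ (∀ i, ∀ p ∈ S, φ (a i * p * (a i)⁻¹) = φ p + A i (φ p)) ∧
        ∀ i, ∀ p ∈ S, φ (b i * p * (b i)⁻¹) = φ p + B i (φ p) := by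
  choose A hA hA' using fun i => shift_op hS hgen hq f hspan (P.sa i)
  choose B hB hB' using fun i => shift_op hS hgen hq f hspan (P.sb i)
  have hcomm : ∀ {g g' : G} {X Y : (Fin m ⊕ Fin m → ZMod 2) →ₗ[ZMod 2] (Fin m ⊕ Fin m → ZMod 2)},
      Shift S g → Shift S g' → (∀ p ∈ S, φ (g * p * g⁻¹) = φ p + X (φ p)) →
      (∀ p ∈ S, φ (g' * p * g'⁻¹) = φ p + Y (φ p)) → Commute g g' → ∀ u, X (Y u) = Y (X u) := by
    intro g g' X Y hg hg' hX hY hc u
    refine LinearMap.congr_fun (f := X.comp Y) (g := Y.comp X) (f.ext_span hspan fun p hp => ?_) u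
    have e : φ (g * (g' * p * g'⁻¹) * g⁻¹) = φ (g' * (g * p * g⁻¹) * g'⁻¹) := by
      congr 1
      rw [show g * (g' * p * g'⁻¹) * g⁻¹ = g * g' * p * (g * g')⁻¹ by group, hc.eq]
      group
    rw [hX _ (hg'.2 p hp).1, hY _ (hg.2 p hp).1, hY p hp, hX p hp] at e
    simp only [map_add, LinearMap.comp_apply] at e ⊢
    rw [show φ p + Y (φ p) + (X (φ p) + X (Y (φ p))) = φ p + Y (φ p) + X (φ p) + X (Y (φ p)) by abel,
      show φ p + X (φ p) + (Y (φ p) + Y (X (φ p))) = φ p + Y (φ p) + X (φ p) + Y (X (φ p)) by abel] at e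
    exact add_left_cancel e
  refine ⟨A, B, ⟨hA, hB, fun i j => hcomm (P.sa i) (P.sa j) (hA' i) (hA' j) (P.caa i j),
    fun i j => hcomm (P.sb i) (P.sb j) (hB' i) (hB' j) (P.cbb i j),
    fun i j hij => hcomm (P.sa i) (P.sb j) (hA' i) (hB' j) (P.cab i j hij), fun i u => ?_⟩, hA', hB'⟩
  have hLB : ∀ {X : (Fin m ⊕ Fin m → ZMod 2) →ₗ[ZMod 2] (Fin m ⊕ Fin m → ZMod 2)}, FOp q X →
      ∀ x y, sform m (x + X x) (y + X y) = sform m x y := by
    intro X hX x y
    simp only [map_add, LinearMap.add_apply, hX.adj x y, hX.adj x (X y), hX.sq]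
    simp only [map_zero, add_zero, add_assoc]
    generalize sform m x y = c; generalize sform m x (X y) = d
    revert c d; decide
  set M := (LinearMap.id + A i).comp (LinearMap.id + B i) with hMdef
  have hM' : ∀ x, M x = x + B i x + A i (x + B i x) := fun x => rfl
  have key := order_three_far hq f hS hspan (P.three i) (M := M) (fun p hp => by
    rw [hM', ← hB' i p hp, ← hA' i _ ((P.sb i).2 p hp).1]
    congr 1
    group) (fun x y => by rw [hM', hM', hLB (hA i), hLB (hB i)]) (P.move i) fun p hp => by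
      rw [show a i * b i * p * (a i * b i)⁻¹ = a i * (b i * p * (b i)⁻¹) * (a i)⁻¹ by group]
      exact ((P.sa i).2 _ ((P.sb i).2 p hp).1).1
  -- the inverse is the product in the other order
  set M' := (LinearMap.id + B i).comp (LinearMap.id + A i) with hM'def
  have hinvol : ∀ {X : (Fin m ⊕ Fin m → ZMod 2) →ₗ[ZMod 2] (Fin m ⊕ Fin m → ZMod 2)}, FOp q X →
      ∀ x, x + X x + X (x + X x) = x := fun {X} hX x => by
    rw [map_add, hX.sq, add_zero, add_assoc, vadd_self, add_zero]
  have hinv : ∀ x, M' (M x) = x := fun x => by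
    show M x + A i (M x) + B i (M x + A i (M x)) = x
    rw [hM', hinvol (hA i), hinvol (hB i)]
  have h2 : ∀ {x y : Fin m ⊕ Fin m → ZMod 2}, x + y = 0 → x = y := fun {x y} e => by
    rw [← add_zero x, ← vadd_self y, ← add_assoc, e, zero_add]
  have h3 : ∀ x, M (M x) = M x + x := fun x => h2 ((add_assoc _ _ _).symm.trans (key x))
  have e2 : M' u = M u + u := by
    rw [← h3 u]
    conv_rhs => rw [← hinv (M (M u)), h3 (M u), h3 u,
      show M u + u + M u = u + (M u + M u) by abel, vadd_self, add_zero]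
  rw [hM', show M' u = u + A i u + B i (u + A i u) from rfl, map_add, map_add] at e2
  funext k
  have := congrFun e2 k
  simp only [Pi.add_apply] at this ⊢
  exact (show ∀ u a b c d : ZMod 2, u + a + (b + c) = u + b + (a + d) + u → d + c = u by decide) _ _ _ _ _ this

/-- The points span. -/
theorem span_norm_one {q' : (Fin (m + 1) ⊕ Fin (m + 1) → ZMod 2) → ZMod 2} (h : ∀ k : Fin (m + 1) ⊕ Fin (m + 1), ∃ c,
    q' c = 1 ∧ (q' (Pi.single k 1 + c) = 1 ∨ q' (Pi.single k 1) = 1)) :
    Submodule.span (ZMod 2) {v | q' v = 1} = ⊤ := by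
  rw [eq_top_iff, ← (Pi.basisFun (ZMod 2) (Fin (m + 1) ⊕ Fin (m + 1))).span_eq, Submodule.span_le]
  rintro _ ⟨k, rfl⟩
  rw [Pi.basisFun_apply]
  obtain ⟨c, hc, e | e⟩ := h k
  · rw [show (Pi.single k 1 : Fin (m + 1) ⊕ Fin (m + 1) → ZMod 2) = Pi.single k 1 + c + c by
      rw [add_assoc, vadd_self, add_zero]]
    exact Submodule.add_mem _ (Submodule.subset_span e) (Submodule.subset_span hc)
  · exact Submodule.subset_span e

end CfsgLib.Fischer
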