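import Cfsg.Agent.Fischer.Disc.Quad

/-!
Shift pairs exist only over the hyperbolic space of dimension eight, and are conjugate there.
-/

set_option autoImplicit false
set_option linter.unusedSectionVars false
set_option linter.style.haveILetI false

namespace CfsgLib.Fischer

open CfsgLib.ThreeT CfsgLib.ThreeT.Prod

universe u

variable {G : Type u} [Group G] {S : Set G}

theorem qminus_isQ (m : ℕ) : IsQ (m + 1) (qminus m) := fun u v => by
  simp only [qminus, qplus_isQ (m + 1) u v, map_add]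
  ring

theorem qplus_single (m : ℕ) (k : Fin m ⊕ Fin m) : qplus m (Pi.single k 1) = 0 := by
  rw [qplus]
  exact Finset.sum_eq_zero fun i _ => by rcases k with k | k <;> simp [Pi.single_apply]

/-- The points of the hyperbolic space span. -/
theorem qplus_span {m : ℕ} (hm : 1 ≤ m) :
    Submodule.span (ZMod 2) {v | qplus (m + 1) v = 1} = ⊤ := by
  refine span_norm_one fun k => ?_
  obtain ⟨j, hjk⟩ : ∃ j : Fin (m + 1), Sum.inl j ≠ k ∧ Sum.inr j ≠ k := by
    obtain ⟨j, hj⟩ := Fintype.exists_ne_of_one_lt_card (by simp; omega) (k.elim id id : Fin (m + 1))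
    exact ⟨j, fun e => hj (by rw [← e]; rfl), fun e => hj (by rw [← e]; rfl)⟩
  refine ⟨Pi.single (Sum.inl j) 1 + Pi.single (Sum.inr j) 1, ?_, Or.inl ?_⟩
  · rw [qplus_isQ, qplus_single, qplus_single, zero_add, sform_apply, CfsgLib.Symp.form_single_inl]
    simp [CharTwo.neg_eq]
  · rw [qplus_isQ, qplus_single, qplus_isQ, qplus_single, qplus_single, map_add]
    simp only [zero_add, sform_apply]
    rcases k with k | k <;>
      simp_all [CfsgLib.Symp.form_single_inl, CfsgLib.Symp.form_single_inr, Pi.single_apply, CharTwo.neg_eq, eq_comm]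

/-- The points of the elliptic space span. -/
theorem qminus_span {m : ℕ} (hm : 1 ≤ m) :
    Submodule.span (ZMod 2) {v | qminus m v = 1} = ⊤ := by
  refine span_norm_one fun k => ?_
  have h0 : qminus m (Pi.single (Sum.inl 0) 1) = 1 := by
    rw [qminus, qplus_single, sform_delta0]
    simp
  have h0' : qminus m (Pi.single (Sum.inr 0) 1) = 1 := by
    rw [qminus, qplus_single, sform_delta0]
    simp
  refine ⟨_, h0, ?_⟩
  by_cases e : k = Sum.inl 0
  · exact Or.inr (e ▸ h0)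
  by_cases e' : k = Sum.inr 0
  · exact Or.inr (e' ▸ h0')
  refine Or.inl ?_
  rw [qminus_isQ, h0, qminus, qplus_single, sform_delta0, sform_symm, sform_apply, CfsgLib.Symp.form_single_inl]
  simp [Pi.single_eq_of_ne (Ne.symm e), Pi.single_eq_of_ne (Ne.symm e')]

variable {r : ℕ} {a b : Fin r → G}

/-- Too many shift pairs. -/
theorem pairs_bound (P : SPairs S a b) (hS : Closed S) (hgen : Subgroup.closure S = ⊤) {m : ℕ} (hm : 0 < m)
    {q : (Fin m ⊕ Fin m → ZMod 2) → ZMod 2} (hq : IsQ m q) {φ : G → Fin m ⊕ Fin m → ZMod 2}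
    (f : TwoCo S (sform m) {v | q v = 1} φ) (hspan : Submodule.span (ZMod 2) {v | q v = 1} = ⊤) : 2 ^ r ≤ 2 * m := by
  obtain ⟨A, B, R, -, -⟩ := P.rep hS hgen hq f hspan
  exact R.bound hm

/-- No three shift pairs on the elliptic space of dimension eight. -/
theorem pairs_minus {a b : Fin 3 → G} (P : SPairs S a b) (hS : Closed S) (hgen : Subgroup.closure S = ⊤)
    {φ : G → Fin 4 ⊕ Fin 4 → ZMod 2} (f : TwoCo S (sform 4) {v | qminus 3 v = 1} φ) : False := by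
  obtain ⟨A, B, R, -, -⟩ := P.rep hS hgen (qminus_isQ 3) f (qminus_span (by norm_num))
  obtain ⟨v, -, Φ, hΦ, -⟩ := R.frame (qminus_isQ 3)
  exact qminus_ne_qplus Φ Φ.bijective hΦ

/-- Every isometry is induced. -/
theorem quad_realise (hS : Closed S) {φ : G → Fin 4 ⊕ Fin 4 → ZMod 2}
    (f : TwoCo S (sform 4) {v | qplus 4 v = 1} φ)
    (T : (Fin 4 ⊕ Fin 4 → ZMod 2) ≃ₗ[ZMod 2] (Fin 4 ⊕ Fin 4 → ZMod 2)) (hT : ∀ v, qplus 4 (T v) = qplus 4 v) :
    ∃ g ∈ Subgroup.closure S, ∀ p ∈ S, φ (g * p * g⁻¹) = T (φ p) := by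
  classical
  set Q := CfsgLib.Quad.plusQ (F := ZMod 2) 4 with hQdef
  have hQ : ∀ v, Q v = qplus 4 v := fun v => congrFun (CfsgLib.Quad.plusQ_coe 4) v
  suffices key : ∀ t : ↥(CfsgLib.Quad.oGroup Q), ∃ g ∈ Subgroup.closure S, ∀ p ∈ S, φ (g * p * g⁻¹) = t.1 (φ p) from
    key ⟨T, fun v => by rw [hQ, hQ, hT]⟩
  intro t
  have ht : t ∈ CfsgLib.Quad.reflGroup Q := by
    rw [CfsgLib.Quad.reflGroup_eq_top (CfsgLib.Quad.plusQ_nondeg 4) (Or.inr (by simp))]; trivial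
  induction ht using Subgroup.closure_induction with
  | mem x hx =>
    obtain ⟨d, rfl⟩ := hx
    rcases two_cases (Q d) with e | e
    · refine ⟨1, Subgroup.one_mem _, fun p _ => ?_⟩
      rw [CfsgLib.Quad.refl_apply, e]
      simp
    · obtain ⟨x, hx, ex⟩ := f.bij.surjOn (show qplus 4 d = 1 by rw [← hQ]; exact e)
      refine ⟨x, Subgroup.subset_closure hx, fun p hp => ?_⟩
      rw [hS.inv hx, f.conj x hx p hp, CfsgLib.Quad.refl_apply, e, ex, tvec]
      congr 2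
      rw [inv_one, ZMod.neg_eq_self_mod_two, one_mul, QuadraticMap.polar, hQ, hQ, hQ, qplus_isQ, sform_symm]
      ring
  | one => exact ⟨1, Subgroup.one_mem _, fun p _ => by simp⟩
  | mul x y _ _ hx hy =>
    obtain ⟨g, hg, hg'⟩ := hx
    obtain ⟨k, hk, hk'⟩ := hy
    refine ⟨g * k, Subgroup.mul_mem _ hg hk, fun p hp => ?_⟩
    rw [show g * k * p * (g * k)⁻¹ = g * (k * p * k⁻¹) * g⁻¹ by group, hg' _ (hS.conj_mem hk p hp), hk' p hp]
    rfl
  | inv x _ hx =>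
    obtain ⟨g, hg, hg'⟩ := hx
    refine ⟨g⁻¹, Subgroup.inv_mem _ hg, fun p hp => ?_⟩
    have h1 := hg' _ (hS.conj_mem (Subgroup.inv_mem _ hg) p hp)
    rw [show g * (g⁻¹ * p * g⁻¹⁻¹) * g⁻¹ = p by group] at h1
    rw [h1]
    exact (LinearEquiv.symm_apply_apply x.1 _).symm

/-- Triples of shift pairs over the hyperbolic space of dimension eight are conjugate. -/
theorem pairs_plus {a b a' b' : Fin 3 → G} (P : SPairs S a b) (P' : SPairs S a' b') (hS : Closed S)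
    (hgen : Subgroup.closure S = ⊤) (hZ : Subgroup.center G = ⊥) {φ : G → Fin 4 ⊕ Fin 4 → ZMod 2}
    (f : TwoCo S (sform 4) {v | qplus 4 v = 1} φ) : ∃ g : G, g * b 0 * g⁻¹ = b' 0 := by
  classical
  have hspan := qplus_span (m := 3) (by norm_num)
  obtain ⟨A, B, R, -, hB⟩ := P.rep hS hgen (qplus_isQ 4) f hspan
  obtain ⟨A', B', R', -, hB'⟩ := P'.rep hS hgen (qplus_isQ 4) f hspan
  obtain ⟨v, -, Φ, hΦq, hΦ⟩ := R.frame (qplus_isQ 4)
  obtain ⟨v', -, Φ', hΦq', hΦ'⟩ := R'.frame (qplus_isQ 4)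
  set T := Φ.symm.trans Φ' with hT
  have hTB : ∀ u, T (B 0 u) = B' 0 (T u) := by
    have hword : ∀ k, T (fockWord B v k) = fockWord B' v' k := fun k => by
      rw [← hΦ, ← hΦ', hT, LinearEquiv.trans_apply, LinearEquiv.symm_apply_apply]
    suffices h : (T.toLinearMap.comp (B 0)).comp Φ.toLinearMap = ((B' 0).comp T.toLinearMap).comp Φ.toLinearMap by
      intro u
      obtain ⟨x, rfl⟩ := Φ.surjective u
      exact LinearMap.congr_fun h x
    refine (Pi.basisFun (ZMod 2) (Fin 4 ⊕ Fin 4)).ext fun k => ?_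
    simp only [LinearMap.comp_apply, LinearEquiv.coe_coe, Pi.basisFun_apply, hΦ, hword]
    have q : ∀ x, B 0 (B 0 x) = 0 := (R.opb 0).sq
    have q' : ∀ x, B' 0 (B' 0 x) = 0 := (R'.opb 0).sq
    have w1 := hword (Sum.inl 1); have w2 := hword (Sum.inr 0); have w3 := hword (Sum.inr 2)
    have w4 := hword (Sum.inr 3)
    simp only [fockWord, Sum.elim_inl, Sum.elim_inr, Matrix.cons_val] at w1 w2 w3 w4
    rcases k with k | k <;> fin_cases k <;> simp [fockWord, q, q', w1, w2, w3, w4]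
  obtain ⟨g, -, hg⟩ := quad_realise hS f T fun u => by
    rw [hT, LinearEquiv.trans_apply, hΦq', ← hΦq, LinearEquiv.apply_symm_apply]
  refine ⟨g, ?_⟩
  have hmem : ∀ (x : G), ∀ p ∈ S, x * p * x⁻¹ ∈ S := fun x => hS.conj_mem (hgen ▸ Subgroup.mem_top x)
  have hact : ∀ p ∈ S, φ (g * b 0 * g⁻¹ * p * (g * b 0 * g⁻¹)⁻¹) = φ (b' 0 * p * (b' 0)⁻¹) := by
    intro p hp
    obtain ⟨p₀, hp₀, rfl⟩ : ∃ p₀ ∈ S, g * p₀ * g⁻¹ = p := ⟨g⁻¹ * p * g, by
      simpa using hmem g⁻¹ p hp, by group⟩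
    rw [show g * b 0 * g⁻¹ * (g * p₀ * g⁻¹) * (g * b 0 * g⁻¹)⁻¹ = g * (b 0 * p₀ * (b 0)⁻¹) * g⁻¹ by group,
      hg _ (hmem _ p₀ hp₀), hB 0 p₀ hp₀, hB' 0 _ hp, hg p₀ hp₀, map_add, hTB]
  have hz : (b' 0)⁻¹ * (g * b 0 * g⁻¹) = 1 := by
    rw [← Subgroup.mem_bot, ← hZ, Subgroup.mem_center_iff]
    intro x
    refine ((Prod.commute_of_closure (S := S) (fun p hp => ?_) x (hgen ▸ Subgroup.mem_top x))).eq
    have e := f.bij.injOn (hmem _ p hp) (hmem _ p hp) (hact p hp)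
    refine (mul_inv_eq_iff_eq_mul.1 ?_).symm
    calc (b' 0)⁻¹ * (g * b 0 * g⁻¹) * p * ((b' 0)⁻¹ * (g * b 0 * g⁻¹))⁻¹
        = (b' 0)⁻¹ * (g * b 0 * g⁻¹ * p * (g * b 0 * g⁻¹)⁻¹) * b' 0 := by group
      _ = (b' 0)⁻¹ * (b' 0 * p * (b' 0)⁻¹) * b' 0 := by rw [e]
      _ = p := by group
  exact (inv_mul_eq_one.1 hz).symm

end CfsgLib.Fischer
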