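import Cfsg.Agent.Fischer.Disc.Linear
import Cfsg.Agent.Fischer.ReflGood
import Cfsg.Agent.Spor3T.ReflModThree

/-!
Shifts on reflection coordinates are complex structures.
-/

set_option autoImplicit false
set_option linter.unusedSectionVars false
set_option linter.style.haveILetI false

namespace CfsgLib.Fischer

open CfsgLib.ThreeT CfsgLib.ThreeT.Prod

universe u

variable {n : ℕ} {Q : QuadraticForm (ZMod 3) (Fin n → ZMod 3)}

/-- An isometry squaring to minus one. -/
structure Cx (Q : QuadraticForm (ZMod 3) (Fin n → ZMod 3)) (L : ↥(CfsgLib.Quad.oGroup Q)) : Prop where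
  sq : ∀ x, L.1 (L.1 x) = -x

theorem Cx.perp_self {L : ↥(CfsgLib.Quad.oGroup Q)} (h : Cx Q L) (x : Fin n → ZMod 3) : pb Q x (L.1 x) = 0 := by
  have h1 : pb Q (L.1 x) (L.1 (L.1 x)) = pb Q x (L.1 x) := CfsgLib.Quad.polar_oGroup L x (L.1 x)
  rw [h.sq, map_neg, pb_symm Q (L.1 x)] at h1
  exact (show ∀ t : ZMod 3, -t = t → t = 0 by decide) _ h1

section span

variable (hQ : (QuadraticMap.polarBilin Q).Nondegenerate) (hn : 5 ≤ n)
include hQ hn

/-- Some member of norm one meets a given vector. -/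
theorem exists_one_meet {z : Fin n → ZMod 3} (hz : z ≠ 0) : ∃ v, Q v = 1 ∧ pb Q z v ≠ 0 := by
  rcases three_cases (Q z) with e | e | e
  · obtain ⟨p, -, qp, hp⟩ := (nd_top hQ).exists_partner (u := z) trivial hz e
    refine ⟨z + p, by rw [q_add, e, qp, hp]; decide, ?_⟩
    rw [map_add, pb_self, e, hp]; decide
  · exact ⟨z, e, by rw [pb_self, e]; decide⟩
  · have h1 := (nd_top hQ).perp_aniso (s := z) trivial (by rw [e]; decide)
    have d0 := finrank_perp Q (⊤ : Submodule (ZMod 3) (Fin n → ZMod 3)) z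
    have dt := finrank_top' (n := n)
    obtain ⟨a, ha, qa⟩ := h1.exists_one (by omega)
    have h2 := h1.perp_aniso ha (by rw [qa]; decide)
    have d1 := finrank_perp Q (perp Q ⊤ z) a
    obtain ⟨b, hb, qb⟩ := h2.exists_one (by omega)
    have za : pb Q z a = 0 := ha.2
    have zb : pb Q z b = 0 := hb.1.2
    have ab : pb Q a b = 0 := hb.2
    refine ⟨z + a + b, ?_, ?_⟩
    · simp only [q_add, e, qa, qb, map_add, LinearMap.add_apply, za, zb, ab]; decide
    · simp only [map_add, pb_self, e, za, zb]; decide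

/-- An isometry fixing every point is a sign. -/
theorem line_fix (T : ↥(CfsgLib.Quad.oGroup Q)) (h : ∀ v, Q v = 1 → ∃ k : ZMod 3, k * k = 1 ∧ T.1 v = k • v) :
    ∃ k : ZMod 3, k * k = 1 ∧ ∀ x, T.1 x = k • x := by
  obtain ⟨u, -, qu⟩ := (nd_top hQ).exists_one (by rw [finrank_top']; omega)
  obtain ⟨k, hk, hu⟩ := h u qu
  have step : ∀ {a b : Fin n → ZMod 3}, Q a = 1 → Q b = 1 → pb Q a b ≠ 0 → T.1 a = k • a → T.1 b = k • b := by
    intro a b qa qb hab ha
    obtain ⟨l, hl, hb⟩ := h b qb
    have h1 : pb Q (T.1 a) (T.1 b) = pb Q a b := CfsgLib.Quad.polar_oGroup T a b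
    rw [ha, hb] at h1
    simp only [map_smul, LinearMap.smul_apply, smul_eq_mul] at h1
    have e : l = k := by
      exact (show ∀ t k l : ZMod 3, k * k = 1 → l * l = 1 → t ≠ 0 → l * (k * t) = t → l = k by decide)
        _ k l hk hl hab h1
    rw [hb, e]
  have hall : ∀ v, Q v = 1 → T.1 v = k • v := by
    intro v qv
    by_cases e : pb Q u v = 0
    · obtain ⟨x, qx, hux, hvx⟩ := exists_far_both hQ hn qu qv e
      exact step qx qv (by rwa [pb_symm]) (step qu qx hux hu)
    · exact step qu qv e hu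
  refine ⟨k, hk, fun x => ?_⟩
  by_contra hne
  obtain ⟨v, qv, hv⟩ := exists_one_meet hQ hn (sub_ne_zero.2 hne)
  refine hv ?_
  have h1 : pb Q (T.1 x) (T.1 v) = pb Q x v := CfsgLib.Quad.polar_oGroup T x v
  rw [hall v qv, map_smul, smul_eq_mul] at h1
  rw [map_sub, map_smul, LinearMap.sub_apply, LinearMap.smul_apply, smul_eq_mul]
  exact (show ∀ k s t : ZMod 3, k * k = 1 → k * s = t → s - k * t = 0 by decide) _ _ _ hk h1

/-- A self-adjoint isometry has a point it does not move to an orthogonal one. -/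
theorem no_symm_perp (L : ↥(CfsgLib.Quad.oGroup Q)) (hL : ∀ x, L.1 (L.1 x) = x)
    (h : ∀ v, Q v = 1 → pb Q v (L.1 v) = 0) : False := by
  have hadj : ∀ x y, pb Q x (L.1 y) = pb Q y (L.1 x) := fun x y => by
    have h1 : pb Q (L.1 x) (L.1 (L.1 y)) = pb Q x (L.1 y) := CfsgLib.Quad.polar_oGroup L x (L.1 y)
    rw [hL, pb_symm Q (L.1 x)] at h1
    exact h1.symm
  -- the difference of two sign changes
  have hflip : ∀ a b c d : Fin n → ZMod 3, Q a = 1 → Q b = 1 → Q c = 1 → Q d = 1 → pb Q a b = 0 → pb Q a c = 0 →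
      pb Q a d = 0 → pb Q b c = 0 → pb Q b d = 0 → pb Q c d = 0 → pb Q b (L.1 c) = 0 := by
    intro a b c d qa qb qc qd ab ac ad bc bd cd
    have key : ∀ s t : ZMod 3, s * s = 1 → t * t = 1 →
        pb Q (a + s • b + t • c + d) (L.1 (a + s • b + t • c + d)) = 0 := by
      intro s t hs ht
      refine h _ ?_
      simp only [q_add, q_smul, map_add, map_smul, LinearMap.add_apply, LinearMap.smul_apply, qa, qb, qc, qd, ab, ac,
        ad, bc, bd, cd, hs, ht, smul_zero, add_zero]
      decide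
    have e1 := key 1 1 rfl rfl
    have e2 := key (-1) 1 rfl rfl
    have e3 := key 1 (-1) rfl rfl
    have e4 := key (-1) (-1) rfl rfl
    simp only [map_add, map_smul, LinearMap.add_apply, LinearMap.smul_apply, h a qa, h b qb, h c qc, h d qd,
      hadj b a, hadj c a, hadj d a, hadj c b, hadj d b, hadj d c, smul_eq_mul] at e1 e2 e3 e4
    revert e1 e2 e3 e4
    generalize pb Q a (L.1 b) = x1; generalize pb Q a (L.1 c) = x2; generalize pb Q a (L.1 d) = x3
    generalize pb Q b (L.1 c) = x4; generalize pb Q b (L.1 d) = x5; generalize pb Q c (L.1 d) = x6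
    intro e1 e2 e3 e4
    have e12 : (2 : ZMod 3) * (x1 + x4 + x5) * 2 = 0 := by linear_combination e1 - e2
    have e34 : (2 : ZMod 3) * (x1 - x4 + x5) * 2 = 0 := by linear_combination e3 - e4
    exact (show ∀ x1 x4 x5 : ZMod 3, 2 * (x1 + x4 + x5) * 2 = 0 → 2 * (x1 - x4 + x5) * 2 = 0 → x4 = 0 by decide)
      x1 x4 x5 e12 e34
  obtain ⟨u, -, qu⟩ := (nd_top hQ).exists_one (by rw [finrank_top']; omega)
  have hall : ∀ x, Q x = 1 → pb Q u (L.1 x) = 0 := by
    intro x qx
    rcases three_cases (pb Q u x) with e | e | e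
    · have dt := finrank_top' (n := n)
      have h1 := ((nd_top hQ).perp_aniso (s := u) trivial (by rw [qu]; decide)).perp_aniso (s := x) ⟨trivial, e⟩
        (by rw [qx]; decide)
      have d0 := finrank_perp Q (⊤ : Submodule (ZMod 3) (Fin n → ZMod 3)) u
      have d1 := finrank_perp Q (perp Q ⊤ u) x
      obtain ⟨a, ha, qa⟩ := h1.exists_one (by omega)
      have h2 := h1.perp_aniso ha (by rw [qa]; decide)
      have d2 := finrank_perp Q (perp Q (perp Q ⊤ u) x) a
      obtain ⟨d, hd, qd⟩ := h2.exists_one (by omega)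
      have ua : pb Q u a = 0 := ha.1.2
      have xa : pb Q x a = 0 := ha.2
      have ud : pb Q u d = 0 := hd.1.1.2
      have xd : pb Q x d = 0 := hd.1.2
      have ad : pb Q a d = 0 := hd.2
      exact hflip a u x d qa qu qx qd (by rw [pb_symm, ua]) (by rw [pb_symm, xa]) ad e ud xd
    all_goals
      have h3 := h (u - pb Q u x • x) (by
        rw [sub_eq_add_neg, ← neg_smul, sub_comb, qu, qx, e]; decide)
      simp only [map_sub, map_smul, LinearMap.sub_apply, LinearMap.smul_apply, h u qu, h x qx, hadj x u, e,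
        smul_eq_mul] at h3
      revert h3
      generalize pb Q u (L.1 x) = t
      revert t
      decide
  have h0 : u = 0 := by
    by_contra hu0
    obtain ⟨v, qv, hv⟩ := exists_one_meet hQ hn hu0
    exact hv (by
      have := hall (L.1 v) ((L.2 v).trans qv)
      rwa [hL] at this)
  rw [h0, QuadraticMap.map_zero] at qu
  exact zero_ne_one qu

end span

end CfsgLib.Fischer
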