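import Cfsg.Agent.Fischer.Disc.Refl

/-!
Group elements on reflection coordinates.
-/

set_option autoImplicit false
set_option linter.unusedSectionVars false
set_option linter.style.haveILetI false

namespace CfsgLib.Fischer

open CfsgLib.ThreeT CfsgLib.ThreeT.Prod

universe u

variable {G : Type u} [Group G] {S : Set G} {n : ℕ} {Q : QuadraticForm (ZMod 3) (Fin n → ZMod 3)}
  {φ : G → Fin n → ZMod 3}

/-- The element and the isometry move the points alike. -/
def Acts (S : Set G) (φ : G → Fin n → ZMod 3) (g : G) (L : ↥(CfsgLib.Quad.oGroup Q)) : Prop :=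
  ∀ p ∈ S, ∃ k : ZMod 3, k * k = 1 ∧ φ (g * p * g⁻¹) = k • L.1 (φ p)

variable (f : RC S Q φ) (hS : Closed S)
include f hS

theorem Acts.one : Acts S φ 1 (1 : ↥(CfsgLib.Quad.oGroup Q)) :=
  fun p _ => ⟨1, rfl, by simp⟩

theorem Acts.mul {g k : G} {L M : ↥(CfsgLib.Quad.oGroup Q)} (hk' : k ∈ Subgroup.closure S) (hg : Acts S φ g L)
    (hk : Acts S φ k M) : Acts S φ (g * k) (L * M) := by
  intro p hp
  obtain ⟨a, ha, e⟩ := hg _ (hS.conj_mem hk' p hp)
  obtain ⟨b, hb, e'⟩ := hk p hp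
  refine ⟨a * b, by rw [mul_mul_mul_comm, ha, hb, one_mul], ?_⟩
  rw [show g * k * p * (g * k)⁻¹ = g * (k * p * k⁻¹) * g⁻¹ by group, e, e', map_smul, smul_smul]
  rfl

theorem Acts.inv {g : G} {L : ↥(CfsgLib.Quad.oGroup Q)} (hg' : g ∈ Subgroup.closure S) (hg : Acts S φ g L) :
    Acts S φ g⁻¹ L⁻¹ := by
  intro p hp
  obtain ⟨a, ha, e⟩ := hg _ (hS.conj_mem (Subgroup.inv_mem _ hg') p hp)
  rw [show g * (g⁻¹ * p * g⁻¹⁻¹) * g⁻¹ = p by group] at e
  refine ⟨a, ha, ?_⟩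
  rw [e, map_smul, smul_smul, ha, one_smul]
  exact (L.1.symm_apply_apply _).symm

theorem acts_mem {x : G} (hx : x ∈ S) : Acts S φ x (CfsgLib.Quad.refl Q (φ x)) := by
  intro p hp
  have h1 : (CfsgLib.Quad.refl Q (φ x)).1 (φ p) = rvec Q (φ x) (φ p) := by
    rw [CfsgLib.ReflThree.refl_apply', f.norm x hx, rvec_eq, neg_one_mul, QuadraticMap.polar_comm]
    rfl
  rw [hS.inv hx]
  rcases f.conj x hx p hp with e | e
  · exact ⟨1, rfl, by rw [e, one_smul, h1]⟩
  · exact ⟨-1, by decide, by rw [e, neg_one_smul, h1]⟩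

/-- Every group element is linear on the points up to sign. -/
theorem exists_acts {g : G} (hg : g ∈ Subgroup.closure S) :
    ∃ L ∈ Subgroup.closure (CfsgLib.ReflThree.rset Q 1), Acts S φ g L := by
  induction hg using Subgroup.closure_induction with
  | mem x hx => exact ⟨_, Subgroup.subset_closure ⟨φ x, f.norm x hx, rfl⟩, acts_mem f hS hx⟩
  | one => exact ⟨1, Subgroup.one_mem _, Acts.one f hS⟩
  | mul x y _ hy hx' hy' =>
    obtain ⟨L, hL, hx''⟩ := hx'
    obtain ⟨M, hM, hy''⟩ := hy'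
    exact ⟨L * M, Subgroup.mul_mem _ hL hM, Acts.mul f hS hy hx'' hy''⟩
  | inv x hx hx' =>
    obtain ⟨L, hL, hx''⟩ := hx'
    exact ⟨L⁻¹, Subgroup.inv_mem _ hL, Acts.inv f hS hx hx''⟩

/-- Every element of the reflection group is induced. -/
theorem refl_realise {T : ↥(CfsgLib.Quad.oGroup Q)} (hT : T ∈ Subgroup.closure (CfsgLib.ReflThree.rset Q 1)) :
    ∃ g ∈ Subgroup.closure S, Acts S φ g T := by
  induction hT using Subgroup.closure_induction with
  | mem x hx =>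
    obtain ⟨v, hv, rfl⟩ := hx
    obtain ⟨x, hx, k, hk, ex⟩ := f.exists_rep hv
    refine ⟨x, Subgroup.subset_closure hx, ?_⟩
    have h1 := acts_mem f hS hx
    have hk0 : k ≠ 0 := by rintro rfl; exact absurd hk (by decide)
    rwa [ex, CfsgLib.Quad.refl_smul hk0] at h1
  | one => exact ⟨1, Subgroup.one_mem _, Acts.one f hS⟩
  | mul x y _ _ hx hy =>
    obtain ⟨g, hg, hg'⟩ := hx
    obtain ⟨k, hk, hk'⟩ := hy
    exact ⟨g * k, Subgroup.mul_mem _ hg hk, Acts.mul f hS hk hg' hk'⟩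
  | inv x _ hx =>
    obtain ⟨g, hg, hg'⟩ := hx
    exact ⟨g⁻¹, Subgroup.inv_mem _ hg, Acts.inv f hS hg hg'⟩

variable (hQ : (QuadraticMap.polarBilin Q).Nondegenerate) (hn : 5 ≤ n)
include hQ hn

/-- Two isometries moving the points alike differ by a sign. -/
theorem Acts.unique {g : G} {L M : ↥(CfsgLib.Quad.oGroup Q)} (h : Acts S φ g L) (h' : Acts S φ g M) :
    ∃ k : ZMod 3, k * k = 1 ∧ ∀ x, L.1 x = k • M.1 x := by
  obtain ⟨k, hk, e⟩ := line_fix hQ hn (M⁻¹ * L) fun v hv => by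
    obtain ⟨p, hp, t, ht, ep⟩ := f.exists_rep hv
    obtain ⟨a, ha, e1⟩ := h p hp
    obtain ⟨b, hb, e2⟩ := h' p hp
    refine ⟨a * b, by rw [mul_mul_mul_comm, ha, hb, one_mul], ?_⟩
    rw [e1, ep, map_smul, map_smul, smul_smul, smul_smul] at e2
    have e3 : L.1 v = (a * b) • M.1 v := by
      have e4 := congrArg ((a * t) • ·) e2
      simp only [smul_smul] at e4
      rw [mul_mul_mul_comm, ha, ht, one_mul, one_smul, mul_mul_mul_comm, ht, mul_one] at e4
      exact e4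
    show M.1.symm (L.1 v) = _
    rw [e3, map_smul, LinearEquiv.symm_apply_apply]
  refine ⟨k, hk, fun x => ?_⟩
  have h1 : M.1.symm (L.1 x) = k • x := e x
  rw [← map_smul, ← h1, LinearEquiv.apply_symm_apply]

/-- A shift is a complex structure. -/
theorem shift_cx {g : G} (hg' : g ∈ Subgroup.closure S) (hg : Shift S g) {L : ↥(CfsgLib.Quad.oGroup Q)}
    (hL : Acts S φ g L) : Cx Q L := by
  have h2 : Acts S φ 1 (L * L) := hg.1 ▸ Acts.mul f hS hg' hL hL
  obtain ⟨k, hk, e⟩ := Acts.unique f hS hQ hn h2 (Acts.one f hS)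
  have e' : ∀ x, L.1 (L.1 x) = k • x := e
  refine ⟨fun x => ?_⟩
  rw [e' x]
  rcases (show ∀ k : ZMod 3, k * k = 1 → k = 1 ∨ k = -1 by decide) k hk with r | r
  · exfalso
    refine no_symm_perp hQ hn L (fun y => by rw [e', r, one_smul]) fun v hv => ?_
    obtain ⟨p, hp, t, ht, ep⟩ := f.exists_rep hv
    obtain ⟨a, ha, e1⟩ := hL p hp
    have h1 := (f.com_iff hS hp (hg.2 p hp).1 (hg.2 p hp).2.1.symm).1 (hg.2 p hp).2.2
    rw [e1, ep, map_smul] at h1
    simp only [map_smul, LinearMap.smul_apply, smul_eq_mul] at h1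
    exact (show ∀ t a b : ZMod 3, t * t = 1 → a * a = 1 → a * (t * (t * b)) = 0 → b = 0 by decide) t a _ ht ha h1
  · rw [r, neg_one_smul]

/-- Shifts with a shift as product anticommute. -/
theorem shift_anti {g k : G} (hg' : g ∈ Subgroup.closure S) (hk' : k ∈ Subgroup.closure S) (hgk : Shift S (g * k))
    {L M : ↥(CfsgLib.Quad.oGroup Q)} (hL : Acts S φ g L) (hM : Acts S φ k M) (hg : Cx Q L) (hk : Cx Q M)
    (x : Fin n → ZMod 3) : L.1 (M.1 x) = -M.1 (L.1 x) := by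
  have h1 := (shift_cx f hS hQ hn (Subgroup.mul_mem _ hg' hk') hgk (Acts.mul f hS hk' hL hM)).sq (M.1 (L.1 x))
  have h2 : L.1 (M.1 (L.1 (M.1 (M.1 (L.1 x))))) = -M.1 (L.1 x) := h1
  rwa [hk.sq, map_neg, hg.sq, neg_neg] at h2

end CfsgLib.Fischer
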