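import Cfsg.Agent.Fischer.Disc.Kernel
import Cfsg.Agent.Fischer.Disc.Patterns

/-!
Pairs of another component seen on one component.
-/

set_option autoImplicit false
set_option linter.unusedSectionVars false
set_option linter.style.haveILetI false

namespace CfsgLib.Fischer

open CfsgLib.ThreeT CfsgLib.ThreeT.Prod

universe u

variable {G : Type u} [Group G] [Finite G] {D : Set G}

open Classical in
/-- An element of the generated group, modulo the centre. -/
noncomputable def toQ (S : Set G) (g : G) : QG S :=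
  if h : g ∈ Subgroup.closure S then QuotientGroup.mk ⟨g, h⟩ else 1

theorem toQ_eq {S : Set G} {g : G} (h : g ∈ Subgroup.closure S) :
    toQ S g = QuotientGroup.mk' (Subgroup.center ↥(Subgroup.closure S)) ⟨g, h⟩ := by
  classical
  exact dif_pos h

theorem toQ_mul {S : Set G} {g k : G} (hg : g ∈ Subgroup.closure S) (hk : k ∈ Subgroup.closure S) :
    toQ S (g * k) = toQ S g * toQ S k := by
  rw [toQ_eq hg, toQ_eq hk, toQ_eq (Subgroup.mul_mem _ hg hk), ← map_mul]
  rfl

theorem toQ_one (S : Set G) : toQ S (1 : G) = 1 := by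
  rw [toQ_eq (Subgroup.one_mem _)]
  rfl

theorem toQ_conj {S : Set G} (hS : Closed S) {g x : G} (hg : g ∈ Subgroup.closure S) (hx : x ∈ S) :
    toQ S g * qmap S x * (toQ S g)⁻¹ = qmap S (g * x * g⁻¹) := by
  rw [toQ_eq hg, qmap_eq hx, qmap_eq (hS.conj_mem hg x hx)]
  rfl

theorem toQ_commute {S : Set G} {g k : G} (hg : g ∈ Subgroup.closure S) (hk : k ∈ Subgroup.closure S)
    (h : Commute g k) : Commute (toQ S g) (toQ S k) := by
  show _ = _
  rw [← toQ_mul hg hk, ← toQ_mul hk hg, h.eq]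

namespace Disc

variable (h : Disc D)
include h

theorem pair_mem {a b x y : G} (ha : a ∈ D) (hb : b ∈ D) (hx : x ∈ comp D a) (hy : y ∈ comp D a) :
    x * y ∈ Subgroup.closure (comp D b) :=
  Subgroup.commutator_le_self _ ((h.cder_eq ha hb).le (h.pair_cder ha hx hy))

theorem not_comp {a b z : G} (ha : a ∈ D) (hba : a ∉ comp D b) (hz : z ∈ comp D b) : z ∉ comp D a := fun q => hba (by
  rw [← comp_eq hz, comp_eq q]
  exact mem_comp_self ha)

/-- A commuting pair of another component gives a shift. -/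
theorem pair_shift {a b x y : G} (ha : a ∈ D) (hb : b ∈ D) (hab : a ∉ comp D b) (hx : x ∈ comp D a)
    (hy : y ∈ comp D a) (hne : x ≠ y) (hc : Commute x y) : Shift (qimg (comp D b)) (toQ (comp D b) (x * y)) := by
  have hS := comp_closed h.closed b
  have htw := h.comp_noTwins hb
  have hm := h.pair_mem ha hb hx hy
  refine ⟨?_, fun p hp => ?_⟩
  · rw [← toQ_mul hm hm, show x * y * (x * y) = x * (y * x) * y by group, ← hc.eq,
      show x * (x * y) * y = (x * x) * (y * y) by group, h.closed.sq hx.1, h.closed.sq hy.1, one_mul, toQ_one]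
  · obtain ⟨z, hz, rfl⟩ := (qmap_bijOn hS htw).surjOn hp
    have hza := h.not_comp ha hab hz
    have h1 : x * y * z * (x * y)⁻¹ ∈ comp D b := by
      rw [← comp_eq hz]
      exact h.shift_comp hx hy hz.1
    rw [toQ_conj hS hm hz]
    refine ⟨(qmap_bijOn hS htw).mapsTo h1, fun e => h.shift_move hx hy hne hz.1 hza
      ((qmap_bijOn hS htw).injOn h1 hz e), ?_⟩
    rw [qmap_commute hS htw hz h1]
    exact ((shift_iff h.closed hx.1 hy.1 hz.1 (h.far_out hx hz.1 hza) (h.far_out hy hz.1 hza)).2 hc).symm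

/-- Hyperbolic pairs of another component give shift pairs. -/
theorem exists_spairs {a b : G} (ha : a ∈ D) (hb : b ∈ D) (hab : a ∉ comp D b) {r : ℕ} (P : PPat (comp D a) r) :
    ∃ p p' : Fin r → QG (comp D b), SPairs (qimg (comp D b)) p p' ∧
      ∀ i, ∃ u ∈ comp D a, ∃ v ∈ comp D a, u ≠ v ∧ Commute u v ∧ p' i = toQ (comp D b) (u * v) := by
  obtain ⟨x, hx, y, y', hy, hy', c1, c2, c3⟩ := P
  have hS := comp_closed h.closed b
  have htw := h.comp_noTwins hb
  have hm := fun (z : G) (hz : z ∈ nb (comp D a) x) => h.pair_mem ha hb hx hz.1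
  have hcom : ∀ {z w : G}, z ∈ nb (comp D a) x → w ∈ nb (comp D a) x → Commute z w → Commute (x * z) (x * w) :=
    fun hz hw q => ((Commute.refl x).mul_right hw.2.2).mul_left (hz.2.2.symm.mul_right q)
  have e2 : ∀ i, x * y i * (x * y' i) = y i * y' i := fun i => by
    rw [show x * y i * (x * y' i) = x * (y i * x) * y' i by group, ← (hy i).2.2.eq,
      show x * (x * y i) * y' i = x * x * (y i * y' i) by group, h.closed.sq hx.1, one_mul]
  refine ⟨fun i => toQ (comp D b) (x * y i), fun i => toQ (comp D b) (x * y' i),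
    ⟨fun i => h.pair_shift ha hb hab hx (hy i).1 (hy i).2.1.symm (hy i).2.2,
      fun i => h.pair_shift ha hb hab hx (hy' i).1 (hy' i).2.1.symm (hy' i).2.2,
      fun i j => toQ_commute (hm _ (hy i)) (hm _ (hy j)) (hcom (hy i) (hy j) (c1 i j)),
      fun i j => toQ_commute (hm _ (hy' i)) (hm _ (hy' j)) (hcom (hy' i) (hy' j) (c2 i j)),
      fun i j hij => toQ_commute (hm _ (hy i)) (hm _ (hy' j)) (hcom (hy i) (hy' j) ((c3 i j).2 hij)),
      fun i => ?_, fun i p hp => ?_⟩,
    fun i => ⟨x, hx, y' i, (hy' i).1, (hy' i).2.1.symm, (hy' i).2.2, rfl⟩⟩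
  · have hnc : ¬ Commute (y i) (y' i) := fun q => (c3 i i).1 q rfl
    have h3 : (y i * y' i) ^ 3 = 1 := (h.cls.1.2 _ (hy i).1.1 _ (hy' i).1.1).resolve_left fun e =>
      hnc (commute_of_sq (h.cls.1.1 _ (hy i).1.1) (h.cls.1.1 _ (hy' i).1.1) e)
    have hmm := h.pair_mem ha hb (hy i).1 (hy' i).1
    rw [← toQ_mul (hm _ (hy i)) (hm _ (hy' i)), e2, pow_three, ← toQ_mul hmm hmm,
      ← toQ_mul hmm (Subgroup.mul_mem _ hmm hmm), ← pow_three, h3, toQ_one]
  · obtain ⟨z, hz, rfl⟩ := (qmap_bijOn hS htw).surjOn hp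
    have hza := h.not_comp ha hab hz
    have hmm := h.pair_mem ha hb (hy i).1 (hy' i).1
    have h1 : y i * y' i * z * (y i * y' i)⁻¹ ∈ comp D b := by
      rw [← comp_eq hz]
      exact h.shift_comp (hy i).1 (hy' i).1 hz.1
    rw [← toQ_mul (hm _ (hy i)) (hm _ (hy' i)), e2, toQ_conj hS hmm hz, qmap_commute hS htw h1 hz,
      shift_iff h.closed (hy i).1.1 (hy' i).1.1 hz.1 (h.far_out (hy i).1 hz.1 hza) (h.far_out (hy' i).1 hz.1 hza)]
    exact fun q => (c3 i i).1 q rfl

/-- Commuting neighbours in another component give a clique of shifts. -/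
theorem exists_clique {a b : G} (ha : a ∈ D) (hb : b ∈ D) (hab : a ∉ comp D b) {r : ℕ} (P : CPat (comp D a) r) :
    ∃ p : Fin r → QG (comp D b), SClique (qimg (comp D b)) p := by
  obtain ⟨x, hx, y, hy, c⟩ := P
  refine ⟨fun i => toQ (comp D b) (x * y i),
    fun i => h.pair_shift ha hb hab hx (hy i).1 (hy i).2.1.symm (hy i).2.2, fun i j hij => ?_⟩
  rw [← toQ_mul (h.pair_mem ha hb hx (hy i).1) (h.pair_mem ha hb hx (hy j).1),
    show x * y i * (x * y j) = x * (y i * x) * y j by group, ← (hy i).2.2.eq,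
    show x * (x * y i) * y j = x * x * (y i * y j) by group, h.closed.sq hx.1, one_mul]
  exact h.pair_shift ha hb hab (hy i).1 (hy j).1 (c i j hij).1 (c i j hij).2

/-- A member outside a component has a pair. -/
theorem exists_pair {a : G} (ha : a ∈ D) :
    ∃ u ∈ comp D a, ∃ v ∈ comp D a, u ≠ v ∧ Commute u v := by
  obtain ⟨u, hu, v, hv, hne, hc⟩ := h.comp_edge ha
  exact ⟨u, hu, v, hv, hne, hc⟩

/-- Conjugate images come from conjugate pairs. -/
theorem conj_lift {b e e' : G} {t : QG (comp D b)} (hb : b ∈ D) (he : e ∈ cder D b) (he' : e' ∈ cder D b)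
    (ht : t * toQ (comp D b) e * t⁻¹ = toQ (comp D b) e') :
    ∃ T ∈ Subgroup.closure (comp D b), T * e * T⁻¹ = e' := by
  obtain ⟨⟨T, hT⟩, rfl⟩ := QuotientGroup.mk_surjective t
  have hn : cder D b ≤ Subgroup.closure (comp D b) := Subgroup.commutator_le_self _
  haveI := h.cder_normal hb
  refine ⟨T, hT, ?_⟩
  rw [toQ_eq (hn he), toQ_eq (hn he')] at ht
  have h1 : (⟨e', hn he'⟩ : ↥(Subgroup.closure (comp D b)))⁻¹ * (⟨T, hT⟩ * ⟨e, hn he⟩ * ⟨T, hT⟩⁻¹) ∈
      Subgroup.center _ := QuotientGroup.eq.1 ht.symm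
  refine (inv_mul_eq_one.1 (h.cder_centralizer hb (z := e'⁻¹ * (T * e * T⁻¹)) fun k hk => ?_)).symm
  exact (congrArg Subtype.val (Subgroup.mem_center_iff.1 h1 ⟨k, hn hk⟩)).symm

/-- Equal products come from one component. -/
theorem comp_of_pair {a a' u v u' v' : G} (hu : u ∈ comp D a) (hv : v ∈ comp D a) (hne : u ≠ v)
    (hu' : u' ∈ comp D a') (hc' : Commute u' v') (e : u * v = u' * v') :
    comp D a' = comp D a := by
  by_contra hd
  have h1 : u' ∉ comp D a := fun q => hd (by rw [← comp_eq hu', comp_eq q])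
  exact h.shift_move hu hv hne hu'.1 h1 (by rw [e, ((Commute.refl u').mul_left hc'.symm).eq, mul_inv_cancel_right])

end Disc

end CfsgLib.Fischer
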